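import Groth.Agent.ModSite.K292.FlatEq
import Mathlib.Topology.Sheaves.Stalks
import Mathlib.Algebra.Category.Ring.FilteredColimits

/-!
# The stalk of a sheaf of rings on a space at a point, and at the corresponding point of the site
-/

set_option autoImplicit false

universe u

open CategoryTheory CategoryTheory.Limits Opposite TopologicalSpace

namespace K293.StalkCmp

open Groth.Agent.Gaga.H976.TM3 K292.Sp K292.Germ K292.FlatEq

variable {X : TopCat.{u}} (O : TopCat.Sheaf CommRingCat.{u} X)

/-- The comparison map of the two stalks. -/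
noncomputable def cmp (x : X) : O.presheaf.stalk x ⟶ ModSite.stalkRing (pt x) O :=
  colimit.desc ((OpenNhds.inclusion x).op ⋙ O.presheaf)
    { pt := ModSite.stalkRing (pt x) O
      ι :=
      { app := fun U => (pt x).toPresheafFiber U.unop.1 ⟨⟨U.unop.2⟩⟩ O.obj
        naturality := fun U V f => by
          have := (pt x).toPresheafFiber_w (P := O.obj) ((OpenNhds.inclusion x).map f.unop) ⟨⟨V.unop.2⟩⟩
          exact this.trans (Category.comp_id _).symm } }

theorem cmp_germ (x : X) {U : Opens X} (hx : x ∈ U) (r : O.presheaf.obj (op U)) :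
    (cmp O x).hom (O.presheaf.germ U x hx r) = gr O x hx r := by
  have h : O.presheaf.germ U x hx ≫ cmp O x = (pt x).toPresheafFiber U ⟨⟨hx⟩⟩ O.obj :=
    colimit.ι_desc _ _
  exact ConcreteCategory.congr_hom h r

theorem cmp_bijective (x : X) : Function.Bijective (cmp O x).hom := by
  constructor
  · rw [injective_iff_map_eq_zero]
    intro a ha
    obtain ⟨U, hx, r, rfl⟩ := O.presheaf.exists_germ_eq a
    rw [cmp_germ] at ha
    obtain ⟨V, hV, hxV, h⟩ := (gr_eq_iff x hx r 0).1 (ha.trans (gr_zero x hx).symm)
    have h1 : O.presheaf.map (homOfLE hV).op r = 0 := h.trans (map_zero _)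
    rw [← O.presheaf.germ_res_apply (homOfLE hV) x hxV r, h1, map_zero]
  · intro a
    obtain ⟨U, hx, r, rfl⟩ := exists_gr x a
    exact ⟨O.presheaf.germ U x hx r, cmp_germ O x hx r⟩

/-- The comparison isomorphism of the two stalks. -/
noncomputable def cmpEquiv (x : X) : O.presheaf.stalk x ≃+* ModSite.stalkRing (pt x) O :=
  RingEquiv.ofBijective (cmp O x).hom (cmp_bijective O x)

theorem nontrivial_stalkRing (x : X) [Nontrivial (O.presheaf.stalk x)] :
    Nontrivial (ModSite.stalkRing (pt x) O) :=
  (cmpEquiv O x).injective.nontrivial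

end K293.StalkCmp
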