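import Mathlib.Algebra.Category.ModuleCat.Sheaf.Free
import Mathlib.Algebra.Category.ModuleCat.Sheaf.PushforwardContinuous

/-!
# Maps out of the structure sheaf on a site with a final object

* `secEquiv M hX : M.sections ≃ M(X)`, `homEquiv M hX : (unit R ⟶ M) ≃ M(X)` for `X` terminal;
* `freeEquiv M hX : (free I ⟶ M) ≃ (I → M(X))`, with their naturality.
-/

set_option autoImplicit false

open CategoryTheory CategoryTheory.Limits Opposite

universe u v' u'

namespace K293.TermSec

variable {C : Type u'} [Category.{v'} C] {J : GrothendieckTopology C} {R : Sheaf J RingCat.{u}}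
  (M : SheafOfModules.{u} R) {X : C} (hX : IsTerminal X)

/-- Global sections are sections over the final object. -/
noncomputable def secEquiv : M.sections ≃ M.val.obj (op X) where
  toFun s := s.eval (op X)
  invFun t := PresheafOfModules.sectionsMk (fun Y => M.val.map (hX.from Y.unop).op t) (by
    intro Y Z f
    refine (PresheafOfModules.map_comp_apply M.val _ _ _).symm.trans ?_
    have h : (hX.from Y.unop).op ≫ f = (hX.from Z.unop).op :=
      Quiver.Hom.unop_inj (hX.hom_ext _ _)
    rw [h])
  left_inv s := by
    apply PresheafOfModules.sections_ext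
    intro Y
    exact PresheafOfModules.sections_property s (hX.from Y.unop).op
  right_inv t := by
    change M.val.map (hX.from X).op t = t
    rw [hX.hom_ext (hX.from X) (𝟙 X), op_id, M.val.map_id]
    rfl

@[simp] theorem secEquiv_apply (s : M.sections) : secEquiv M hX s = s.eval (op X) := rfl

/-- Maps out of the structure sheaf are sections over the final object. -/
noncomputable def homEquiv : (SheafOfModules.unit R ⟶ M) ≃ M.val.obj (op X) :=
  M.unitHomEquiv.trans (secEquiv M hX)

theorem homEquiv_apply (f : SheafOfModules.unit R ⟶ M) :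
    homEquiv M hX f = f.val.app (op X) (1 : R.obj.obj (op X)) := rfl

variable {M}

theorem homEquiv_comp {N : SheafOfModules.{u} R} (f : SheafOfModules.unit R ⟶ M) (g : M ⟶ N) :
    homEquiv N hX (f ≫ g) = g.val.app (op X) (homEquiv M hX f) := rfl

include hX in
theorem unit_hom_ext {f g : SheafOfModules.unit R ⟶ M}
    (h : f.val.app (op X) (1 : R.obj.obj (op X)) = g.val.app (op X) (1 : R.obj.obj (op X))) :
    f = g :=
  (homEquiv M hX).injective h

variable [HasWeakSheafify J AddCommGrpCat.{u}] [J.WEqualsLocallyBijective AddCommGrpCat.{u}]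

variable (M) in
/-- Maps out of a free module are families of sections over the final object. -/
noncomputable def freeEquiv {I : Type u} :
    (SheafOfModules.free (R := R) I ⟶ M) ≃ (I → M.val.obj (op X)) :=
  M.freeHomEquiv.trans (Equiv.piCongrRight fun _ => secEquiv M hX)

theorem freeEquiv_apply {I : Type u} (f : SheafOfModules.free (R := R) I ⟶ M) (i : I) :
    freeEquiv M hX f i = homEquiv M hX (SheafOfModules.ιFree i ≫ f) := rfl

theorem freeEquiv_comp {N : SheafOfModules.{u} R} {I : Type u}
    (f : SheafOfModules.free (R := R) I ⟶ M) (g : M ⟶ N) (i : I) :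
    freeEquiv N hX (f ≫ g) i = g.val.app (op X) (freeEquiv M hX f i) := by
  rw [freeEquiv_apply, freeEquiv_apply, ← homEquiv_comp, Category.assoc]

end K293.TermSec
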