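import Groth.Prelude.Def_ModSite
import Groth.Agent.Gaga.H976.TM0
import Groth.Agent.ModSite.K293.TermSec
import Mathlib.CategoryTheory.Sites.CoverLifting
import Mathlib.Algebra.Category.ModuleCat.Sheaf.Quasicoherent

/-!
# Restriction of modules to `C/U` preserves colimits (any small site)

* `preservesColimits_toSheaf`, `reflectsColimits_toSheaf` (`u`-small shapes);
* `preservesColimits_restr`, `preservesFiniteLimits_restr`, `restr_additive`;
* `restrFreeIso : free I ≅ (restr O U).obj (free I)`;
* `restr_hom_ext`: two maps out of the structure sheaf of `C/U` agree if they agree on `1 ∈ O(U)`.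
-/

set_option autoImplicit false

open CategoryTheory CategoryTheory.Limits Opposite

universe u

namespace K293.Restr

section ToSheaf

variable {C : Type u} [SmallCategory C] {J : GrothendieckTopology C} (R : Sheaf J RingCat.{u})

/-- `toSheaf` preserves colimits. -/
theorem preservesColimits_toSheaf :
    PreservesColimitsOfSize.{u, u} (SheafOfModules.toSheaf.{u} R) where
  preservesColimitsOfShape {I _} := by
    have h0 : PreservesColimitsOfSize.{u, u} (presheafToSheaf J AddCommGrpCat.{u}) :=
      (CategoryTheory.sheafificationAdjunction J AddCommGrpCat.{u}).leftAdjoint_preservesColimits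
    have : PreservesColimitsOfShape I
        (PresheafOfModules.sheafification.{u} (𝟙 R.obj) ⋙ SheafOfModules.toSheaf.{u} R) :=
      inferInstanceAs (PreservesColimitsOfShape I
        (PresheafOfModules.toPresheaf _ ⋙ presheafToSheaf J AddCommGrpCat.{u}))
    exact Groth.Agent.Gaga.H976.TM0.preservesColimitsOfShape_of_reflective
      (PresheafOfModules.sheafificationAdjunction.{u} (𝟙 R.obj)) _ I

/-- `toSheaf` reflects isomorphisms. -/
theorem reflectsIsomorphisms_toSheaf : (SheafOfModules.toSheaf.{u} R).ReflectsIsomorphisms := by
  have : (SheafOfModules.forget.{u} R ⋙ PresheafOfModules.toPresheaf R.obj).ReflectsIsomorphisms :=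
    inferInstance
  exact reflectsIsomorphisms_of_comp (SheafOfModules.toSheaf.{u} R)
    (sheafToPresheaf J AddCommGrpCat.{u})

/-- `toSheaf` reflects colimits. -/
theorem reflectsColimits_toSheaf :
    ReflectsColimitsOfSize.{u, u} (SheafOfModules.toSheaf.{u} R) := by
  have := preservesColimits_toSheaf R
  have := reflectsIsomorphisms_toSheaf R
  exact reflectsColimits_of_reflectsIsomorphisms

end ToSheaf

variable {C : Type u} [SmallCategory C] {J : GrothendieckTopology C} (O : Sheaf J CommRingCat.{u})
  (U : C)

instance restr_additive : (ModSite.restr O U).Additive where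
  map_add := rfl

/-- Restriction preserves colimits. -/
instance preservesColimits_restr : PreservesColimitsOfSize.{u, u} (ModSite.restr O U) := by
  have h1 : PreservesColimitsOfSize.{u, u}
      ((Over.forget U).sheafPushforwardContinuous AddCommGrpCat.{u} (J.over U) J) :=
    ((Over.forget U).sheafAdjunctionCocontinuous AddCommGrpCat.{u}
      (J.over U) J).leftAdjoint_preservesColimits
  have h2 := preservesColimits_toSheaf (ModSite.ringSh O)
  have h3 : PreservesColimitsOfSize.{u, u}
      (ModSite.restr O U ⋙ SheafOfModules.toSheaf.{u} (ModSite.ringSh (O.over U))) :=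
    inferInstanceAs (PreservesColimitsOfSize.{u, u} (SheafOfModules.toSheaf.{u} (ModSite.ringSh O) ⋙
      (Over.forget U).sheafPushforwardContinuous AddCommGrpCat.{u} (J.over U) J))
  have h4 := reflectsColimits_toSheaf (ModSite.ringSh (O.over U))
  exact preservesColimits_of_reflects_of_preserves (ModSite.restr O U)
    (SheafOfModules.toSheaf.{u} (ModSite.ringSh (O.over U)))

instance preservesFiniteColimits_restr : PreservesFiniteColimits (ModSite.restr O U) :=
  PreservesColimitsOfSize.preservesFiniteColimits.{u, u} _

instance preservesLimits_restr : PreservesLimitsOfSize.{u, u} (ModSite.restr O U) :=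
  (ModSite.extZeroAdj O U).rightAdjoint_preservesLimits

instance preservesFiniteLimits_restr : PreservesFiniteLimits (ModSite.restr O U) :=
  PreservesLimitsOfSize.preservesFiniteLimits.{u, u} _

/-- The restriction of the structure sheaf. -/
noncomputable def restrUnitIso :
    SheafOfModules.unit (ModSite.ringSh (O.over U)) ≅
      (ModSite.restr O U).obj (SheafOfModules.unit (ModSite.ringSh O)) := Iso.refl _

/-- The restriction of a free module is free. -/
noncomputable def restrFreeIso (I : Type u) :
    SheafOfModules.free (R := ModSite.ringSh (O.over U)) I ≅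
      (ModSite.restr O U).obj (SheafOfModules.free I) :=
  SheafOfModules.mapFreeIso (ModSite.restr O U) I (restrUnitIso O U)

theorem ιFree_restrFreeIso_hom (I : Type u) (i : I) :
    SheafOfModules.ιFree i ≫ (restrFreeIso O U I).hom =
      (ModSite.restr O U).map (SheafOfModules.ιFree i) :=
  (SheafOfModules.ιFree_mapFreeIso_hom (ModSite.restr O U) I (restrUnitIso O U) i).trans
    (Category.id_comp _)

variable {O U}

/-- Maps out of the structure sheaf of `C/U` agree if they agree on `1 ∈ O(U)`. -/
theorem over_hom_ext {M : ModSite.Mod (O.over U)} {f g : ModSite.unit (O.over U) ⟶ M}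
    (h : f.val.app (op (Over.mk (𝟙 U))) (1 : O.obj.obj (op U)) =
      g.val.app (op (Over.mk (𝟙 U))) (1 : O.obj.obj (op U))) : f = g :=
  TermSec.unit_hom_ext Over.mkIdTerminal h

/-- Maps out of the free module over `C/U` which agree on the basis are equal. -/
theorem over_free_hom_ext {M : ModSite.Mod (O.over U)} {I : Type u}
    {f g : SheafOfModules.free (R := ModSite.ringSh (O.over U)) I ⟶ M}
    (h : ∀ i, TermSec.freeEquiv M Over.mkIdTerminal f i = TermSec.freeEquiv M Over.mkIdTerminal g i) :
    f = g :=
  (TermSec.freeEquiv M Over.mkIdTerminal).injective (funext h)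

/-- Local lifting of finitely many sections through an epimorphism. -/
theorem exists_lift_of_epi {F G : ModSite.Mod O} (p : G ⟶ F) [Epi p] {I : Type*} [Finite I]
    (V : C) (t : I → ModSite.sect F V) :
    ∃ R ∈ J V, ∀ ⦃W : C⦄ (g : W ⟶ V), R g →
      ∃ s : I → ModSite.sect G W, ∀ i, p.val.app (op W) (s i) = F.val.map g.op (t i) := by
  classical
  have := Fintype.ofFinite I
  have hp := (Groth.Agent.Gaga.H976.TM0.epi_iff p).1 inferInstance
  choose S hS hs using fun i => hp V (t i)
  refine ⟨Finset.univ.inf S, ?_, ?_⟩
  · have : ∀ T : Finset I, T.inf S ∈ J V := by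
      intro T
      induction T using Finset.induction_on with
      | empty => simp
      | insert a T _ ih =>
        rw [Finset.inf_insert]
        exact J.intersection_covering (hS a) ih
    exact this _
  · intro W g hg
    have h1 : ∀ i, S i g := fun i => by
      have : Finset.univ.inf S ≤ S i := Finset.inf_le (Finset.mem_univ i)
      exact this _ hg
    choose s hs' using fun i => hs i g (h1 i)
    exact ⟨s, hs'⟩

end K293.Restr
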