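import Groth.Prelude.Def_ModSite
import Mathlib.Algebra.Category.ModuleCat.Sheaf.PullbackFree
import Mathlib.Algebra.Category.ModuleCat.Sheaf.Quasicoherent

/-!
# The inverse image of the structure sheaf along a morphism of ringed sites

For every `f : RMor O_C O_D`: `f^* O_D ≅ O_C` (`pullUnitIso`) and `f^*` of a free module is free
(`pullFreeIso`).  The point is that global sections of a sheaf `G` on `C` and of `f_* G` agree
(`bijective_sections`), because `f⁻¹` on sheaves of sets preserves the final object.
-/

set_option autoImplicit false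

open CategoryTheory CategoryTheory.Limits Opposite

universe u

namespace K293.PullUnit

section Sets

variable {C : Type u} [SmallCategory C] (J : GrothendieckTopology C)

/-- The sheaf which is a point everywhere. -/
def pt : Sheaf J (Type u) :=
  ⟨(Functor.const _).obj PUnit, by
    rw [isSheaf_iff_isSheaf_of_type]
    intro X S hS x hx
    exact ⟨PUnit.unit, fun _ _ _ => rfl, fun _ _ => rfl⟩⟩

/-- `pt` is final. -/
def isTerminalPt : IsTerminal (pt J) :=
  IsTerminal.ofUniqueHom (fun _ => ⟨{ app := fun _ => ↾(fun _ => PUnit.unit) }⟩) (by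
    intro X m
    ext
    rfl)

variable {J}

/-- Maps from the final sheaf are global sections. -/
def ptEquiv (G : Sheaf J (Type u)) : (pt J ⟶ G) ≃ G.obj.sections where
  toFun h := ⟨fun X => h.hom.app X PUnit.unit, fun {X Y} g =>
    (NatTrans.naturality_apply h.hom g PUnit.unit).symm⟩
  invFun s := ⟨{ app := fun X => ↾(fun _ => s.1 X)
                 naturality := fun X Y g => by
                  ext x
                  exact (s.2 g).symm }⟩
  left_inv h := by
    ext
    rfl
  right_inv s := rfl

end Sets

section Pull

/-- Global sections of `G` and of `f_* G` agree. -/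
theorem bijective_sections {C : Type u} [SmallCategory C] {J : GrothendieckTopology C}
    {D : Type u} [SmallCategory D] (K : GrothendieckTopology D) (fn : D ⥤ C)
    [fn.IsContinuous K J] [PreservesFiniteLimits (fn.sheafPullback (Type u) K J)]
    (G : Sheaf J (Type u)) :
    Function.Bijective (fn.op.sectionsPrecomp (P := G.obj)) := by
  let adj := fn.sheafAdjunctionContinuous (Type u) K J
  have hT : IsTerminal ((fn.sheafPullback (Type u) K J).obj (pt K)) :=
    IsTerminal.isTerminalObj _ _ (isTerminalPt K)
  let v : (fn.sheafPullback (Type u) K J).obj (pt K) ⟶ pt J := (isTerminalPt J).from _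
  have hv : IsIso v := ⟨hT.from _, hT.hom_ext _ _, (isTerminalPt J).hom_ext _ _⟩
  let φ : (pt J ⟶ G) → (pt K ⟶ (fn.sheafPushforwardContinuous (Type u) K J).obj G) :=
    fun h => adj.homEquiv _ _ (v ≫ h)
  have hφ : Function.Bijective φ := by
    refine (adj.homEquiv _ _).bijective.comp ?_
    constructor
    · intro a b hab
      exact (cancel_epi v).1 hab
    · intro b
      exact ⟨inv v ≫ b, by simp⟩
  have key : fn.op.sectionsPrecomp (P := G.obj) =
      (ptEquiv ((fn.sheafPushforwardContinuous (Type u) K J).obj G)) ∘ φ ∘ (ptEquiv G).symm := by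
    funext s
    apply (ptEquiv ((fn.sheafPushforwardContinuous (Type u) K J).obj G)).symm.injective
    change _ = (ptEquiv ((fn.sheafPushforwardContinuous (Type u) K J).obj G)).symm
      ((ptEquiv ((fn.sheafPushforwardContinuous (Type u) K J).obj G)) _)
    rw [Equiv.symm_apply_apply]
    change _ = adj.homEquiv _ _ (v ≫ (ptEquiv G).symm s)
    rw [Adjunction.homEquiv_naturality_right]
    rfl
  rw [key]
  exact (Equiv.bijective _).comp (hφ.comp (Equiv.bijective _))

end Pull

variable {C : Type u} [SmallCategory C] {J : GrothendieckTopology C}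
  {D : Type u} [SmallCategory D] {K : GrothendieckTopology D}
  {O_C : Sheaf J CommRingCat.{u}} {O_D : Sheaf K CommRingCat.{u}} (f : ModSite.RMor O_C O_D)

theorem bijective_pushforwardSections (M : ModSite.Mod O_C) :
    Function.Bijective (SheafOfModules.pushforwardSections f.sharpR (M := M)) :=
  bijective_sections K f.fn ((sheafCompose J (forget AddCommGrpCat.{u})).obj (ModSite.toAb M))

set_option backward.isDefEq.respectTransparency.types false in
/-- `f^* O_D ⟶ O_C` is an isomorphism. -/
instance isIso_pullbackObjUnitToUnit : IsIso (SheafOfModules.pullbackObjUnitToUnit f.sharpR) := by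
  rw [isIso_iff_coyoneda_map_bijective]
  intro M
  rw [← ((SheafOfModules.pullbackPushforwardAdjunction.{u} f.sharpR).homEquiv _ _).bijective.of_comp_iff',
    ← (SheafOfModules.unitHomEquiv _).bijective.of_comp_iff']
  convert! (bijective_pushforwardSections f M).comp (SheafOfModules.unitHomEquiv _).bijective
  ext g : 1
  dsimp
  rw [SheafOfModules.pushforwardSections_unitHomEquiv, EmbeddingLike.apply_eq_iff_eq,
    Adjunction.homEquiv_naturality_right,
    SheafOfModules.pullbackPushforwardAdjunction_homEquiv_pullbackObjUnitToUnit]

/-- `f^* O_D ≅ O_C`. -/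
noncomputable def pullUnitIso : f.pull.obj (ModSite.unit O_D) ≅ ModSite.unit O_C :=
  asIso (SheafOfModules.pullbackObjUnitToUnit f.sharpR)

/-- The adjoint of `f^* O_D ≅ O_C` is `O_D ⟶ f_* O_C`. -/
theorem homEquiv_pullUnitIso_hom :
    f.adj.homEquiv _ _ (pullUnitIso f).hom = SheafOfModules.unitToPushforwardObjUnit f.sharpR :=
  SheafOfModules.pullbackPushforwardAdjunction_homEquiv_pullbackObjUnitToUnit f.sharpR

instance pull_preservesColimits : PreservesColimitsOfSize.{u, u} f.pull :=
  f.adj.leftAdjoint_preservesColimits

instance pull_additive : f.pull.Additive := f.adj.left_adjoint_additive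

/-- `f^*` of a free module is free. -/
noncomputable def pullFreeIso (I : Type u) :
    f.pull.obj (SheafOfModules.free I) ≅ SheafOfModules.free I :=
  (SheafOfModules.mapFreeIso f.pull I (pullUnitIso f).symm).symm

end K293.PullUnit
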