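import Groth.Agent.S9035
import Groth.Agent.ModSite.K295.Coprod
import Groth.Agent.ModSite.K291.Colim
import Groth.Agent.ModSite.K291.FreeOn

/-!
# Compact objects of `D(O)` on a site with enough quasi-compact objects
-/

set_option autoImplicit false

universe u

open CategoryTheory CategoryTheory.Limits Opposite

namespace K293.CompQc

open K291.FreeOn

variable {C : Type u} [SmallCategory C] {J : GrothendieckTopology C} (O : Sheaf J CommRingCat.{u})

/-- The modules `j_! O_U` with `U` quasi-compact. -/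
def S : Set (ModSite.Mod O) :=
  {E | ∃ U : C, CohCx.IsQcObject ((presheafToSheaf J (Type u)).obj (yoneda.obj U)) ∧
    E = ModSite.freeOn O U}

theorem exists_epi [HasCoproducts.{u} (ModSite.Mod O)]
    (hC : ∀ V : C, ∃ R ∈ J V, ∀ ⦃W : C⦄ (g : W ⟶ V), R g →
      ∃ (U : C) (a : W ⟶ U) (b : U ⟶ V),
        CohCx.IsQcObject ((presheafToSheaf J (Type u)).obj (yoneda.obj U)) ∧ a ≫ b = g)
    (X : ModSite.Mod O) :
    ∃ (ι : Type u) (E : ι → ModSite.Mod O) (π : ∐ E ⟶ X), (∀ i, E i ∈ S O) ∧ Epi π := by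
  let Qc : Type u := {U : C // CohCx.IsQcObject ((presheafToSheaf J (Type u)).obj (yoneda.obj U))}
  let E : (Σ U : Qc, ModSite.sect X U.1) → ModSite.Mod O := fun i => ModSite.freeOn O i.1.1
  refine ⟨Σ U : Qc, ModSite.sect X U.1, E, Sigma.desc fun i => ofSec i.2, fun i => ⟨i.1.1, i.1.2, rfl⟩,
    ⟨fun {Z} φ ψ h => ?_⟩⟩
  refine isSeparating O {U : C | CohCx.IsQcObject ((presheafToSheaf J (Type u)).obj (yoneda.obj U))}
    (fun V => ?_) φ ψ ?_
  · obtain ⟨R, hR, H⟩ := hC V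
    choose U a b hU hab using H
    refine ⟨Σ (W : C), {g : W ⟶ V // R g}, fun i => U i.2.1 i.2.2, fun i => b i.2.1 i.2.2, ?_,
      fun i => hU _ _⟩
    refine J.superset_covering ?_ hR
    intro W g hg
    exact ⟨_, a g hg, b g hg, Presieve.ofArrows.mk
      (⟨W, g, hg⟩ : Σ (W : C), {g : W ⟶ V // R g}), hab g hg⟩
  · intro G hG t
    obtain ⟨U⟩ := hG
    have h1 : ofSec (sc t U.1 (gen O U.1)) = t := by
      refine freeOn_hom_ext ?_
      rw [sc_ofSec]
    have h2 := congrArg (fun z => Sigma.ι E ⟨⟨U.1, U.2⟩, sc t U.1 (gen O U.1)⟩ ≫ z) h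
    simp only [Sigma.ι_desc_assoc] at h2
    rw [h1] at h2
    exact h2

theorem s9036 [HasFiniteBiproducts (ModSite.Mod O)]
    [HasDerivedCategory.{u} (ModSite.Mod O)] [HasCoproducts.{u} (DerivedCategory (ModSite.Mod O))]
    (hC : ∀ V : C, ∃ R ∈ J V, ∀ ⦃W : C⦄ (g : W ⟶ V), R g →
      ∃ (U : C) (a : W ⟶ U) (b : U ⟶ V),
        CohCx.IsQcObject ((presheafToSheaf J (Type u)).obj (yoneda.obj U)) ∧ a ≫ b = g)
    (K : DerivedCategory (ModSite.Mod O)) (hK : CohDer.IsCompactObject K) :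
    ∃ (L : CochainComplex (ModSite.Mod O) ℤ) (a b : ℤ),
      (∀ i : ℤ, i < a ∨ b < i → IsZero (L.X i)) ∧
      (∀ i : ℤ, ∃ (n : ℕ) (U : Fin n → C),
        (∀ j, CohCx.IsQcObject ((presheafToSheaf J (Type u)).obj (yoneda.obj (U j)))) ∧
        Nonempty (L.X i ≅ ⨁ fun j => ModSite.freeOn O (U j))) ∧
      Nonempty (Retract K (DerivedCategory.Q.obj L)) := by
  have : HasCoproducts.{u} (ModSite.Mod O) := fun J => inferInstance
  have := K291.Colim.isGrothendieckAbelian O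
  obtain ⟨L, a, b, hL, hL', hK'⟩ := Groth.Agent.S9035.result (S O) (exists_epi O hC)
    (fun E hE ι => by
      obtain ⟨U, hU, rfl⟩ := hE
      exact K295.Coprod.preservesColimitsOfShape_hom O U hU ι) K hK
  refine ⟨L, a, b, hL, fun i => ?_, hK'⟩
  obtain ⟨n, E, hE, hi⟩ := hL' i
  choose U hU hEU using hE
  obtain rfl : E = fun j => ModSite.freeOn O (U j) := funext hEU
  exact ⟨n, U, hU, hi⟩

end K293.CompQc
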