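import Groth.Agent.CohtopB.CompactFinDim
import Groth.Agent.Proet.PresCoprod
import Groth.Agent.CohtopA.ExtAdj
import Mathlib.CategoryTheory.Abelian.Projective.Basic
import Mathlib.Algebra.Homology.DerivedCategory.Ext.EnoughProjectives

/-!
# `Ext` and direct sums: abstract lemmas

* `ext0Iso G : Ext^0(G, -) ≅ Hom(G, -)`;
* `preserves_ext_of_projective`: for `G` projective with `Hom(G, -)` preserving coproducts, all
  `Ext^p(G, -)` preserve coproducts;
* `homIso`: `Ext^p(Z', -) ≅ R ⋙ Ext^p(Z, -)` (natural version of `ExtAdj.extOfHomEquiv`).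
-/

set_option autoImplicit false

universe w w' v v' u u'

open CategoryTheory CategoryTheory.Limits Opposite Abelian

namespace K293.ExtCop

variable {A : Type u} [Category.{v} A] [Abelian A]

/-- `Ext^0(G, -) ≅ Hom(G, -)`. -/
noncomputable def ext0Iso [HasExt.{v} A] (G : A) :
    Abelian.extFunctorObj G 0 ≅ preadditiveCoyoneda.obj (op G) :=
  NatIso.ofComponents (fun F => (Ext.addEquiv₀ (X := G) (Y := F)).toAddCommGrpIso) (by
    intro F F' f
    ext x
    obtain ⟨x, rfl⟩ := (Ext.addEquiv₀ (X := G) (Y := F)).symm.surjective x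
    change Ext.addEquiv₀ ((Ext.addEquiv₀.symm x).comp (Ext.mk₀ f) (add_zero 0)) =
      (Ext.addEquiv₀ (Ext.addEquiv₀.symm x)) ≫ f
    rw [AddEquiv.apply_symm_apply, Ext.addEquiv₀_symm_apply, Ext.mk₀_comp_mk₀,
      ← Ext.addEquiv₀_symm_apply, AddEquiv.apply_symm_apply])

theorem preserves_ext_zero [HasExt.{v} A] (G : A) {K : Type w} [Category.{w'} K]
    [PreservesColimitsOfShape K (preadditiveCoyoneda.obj (op G))] :
    PreservesColimitsOfShape K (Abelian.extFunctorObj G 0) :=
  preservesColimitsOfShape_of_natIso (ext0Iso G).symm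

/-- A functor with zero values preserves colimits. -/
theorem preserves_of_isZero {B : Type u'} [Category.{v'} B] (F : A ⥤ B) [HasZeroMorphisms B]
    (hF : ∀ X, IsZero (F.obj X)) {K : Type w} [Category.{w'} K] :
    PreservesColimitsOfShape K F where
  preservesColimit {D} := ⟨fun {c} _ => ⟨
    { desc := fun s => (hF c.pt).to_ s.pt
      fac := fun s j => (hF (D.obj j)).eq_of_src _ _
      uniq := fun s m _ => (hF c.pt).eq_of_src _ _ }⟩⟩

theorem preserves_ext_of_projective [HasExt.{v} A] (G : A) [Projective G] (p : ℕ)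
    {K : Type w} [Category.{w'} K]
    [PreservesColimitsOfShape K (preadditiveCoyoneda.obj (op G))] :
    PreservesColimitsOfShape K (Abelian.extFunctorObj G p) := by
  cases p with
  | zero => exact preserves_ext_zero G
  | succ p =>
    refine preserves_of_isZero _ fun X => ?_
    have h : Subsingleton (Ext.{v} G X (p + 1)) :=
      ⟨fun x y => (Ext.eq_zero_of_projective x).trans (Ext.eq_zero_of_projective y).symm⟩
    exact @AddCommGrpCat.isZero_of_subsingleton ((Abelian.extFunctorObj G (p + 1)).obj X) h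

section

variable {B : Type u'} [Category.{v'} B] [Abelian B] [HasExt.{w} A] [HasExt.{w} B]
  [EnoughInjectives A]
  (R : A ⥤ B) [R.Additive] [PreservesFiniteLimits R] [PreservesFiniteColimits R]
  {Z : B} {Z' : A} (c : Z ⟶ R.obj Z')

/-- The natural version of `ExtAdj.extOfHomEquiv`. -/
noncomputable def homIso (hc : ∀ Y : A, Function.Bijective (fun (f : Z' ⟶ Y) => c ≫ R.map f))
    (hR : ∀ (I : A) [Injective I] (n : ℕ), Subsingleton (Ext.{w} Z (R.obj I) (n + 1))) (n : ℕ) :
    (Abelian.extFunctorObj Z' n : A ⥤ AddCommGrpCat.{w}) ≅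
      R ⋙ (Abelian.extFunctorObj Z n : B ⥤ AddCommGrpCat.{w}) :=
  NatIso.ofComponents (fun Y =>
    (Groth.Agent.CohtopA.ExtAdj.extOfHomEquiv R c hc hR Y n).toAddCommGrpIso) (by
    intro Y Y' f
    ext e
    have := Groth.Agent.CohtopA.ExtAdj.extOfHom_comp R c e (Ext.mk₀ f) (add_zero n)
    rw [Ext.mapExactFunctor_mk₀] at this
    exact this)

end

end K293.ExtCop
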