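import Groth.Agent.ModSite.K293.ExtCop
import Groth.Agent.ModSite.K296.FreeOn
import Groth.Agent.ModSite.K291.Colim
import Groth.Agent.CohtopA.ModExt
import Groth.Agent.CohtopA.FreeAb
import Groth.Agent.SiteCmp.K578.Der
import Groth.Prelude.Def_CohCx

/-!
# `Ext_O(j_{U!} O_U, -)` is cohomology of the underlying abelian sheaf

* `extFreeOnIso O U p : Ext^p_O(freeOn O U, -) ≅ toSheaf ⋙ Ext^p(Z_U, -)`;
* `preserves_ext_freeOn`: if `H^p(U, -)` preserves colimits of some shape, so does
  `Ext^p_O(freeOn O U, -)`;
* `preserves_coproducts_of_filtered`: for abelian sheaves, commutation with filtered colimits implies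
  commutation with direct sums.
-/

set_option autoImplicit false

universe u

open CategoryTheory CategoryTheory.Limits Opposite

namespace K293.ExtFreeOn

open K296.FreeOn ModSite Groth.Agent

variable {C : Type u} [SmallCategory C] {J : GrothendieckTopology C} (O : Sheaf J CommRingCat.{u})

/-- The canonical map `Z_U ⟶ j_{U!} O_U`. -/
noncomputable def can (U : C) :
    CohCx.freeSheaf J U ⟶ (SheafOfModules.toSheaf (ringSh O)).obj (freeOn O U) :=
  (CohtopA.FreeAb.homEv_bijective (J := J) U
    ((SheafOfModules.toSheaf (ringSh O)).obj (freeOn O U))).2 (gen O U) |>.choose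

theorem homEv_can (U : C) : CohtopA.FreeAb.homEv (J := J) U _ (can O U) = gen O U :=
  ((CohtopA.FreeAb.homEv_bijective (J := J) U
    ((SheafOfModules.toSheaf (ringSh O)).obj (freeOn O U))).2 (gen O U)).choose_spec

theorem bijective_can (U : C) (F : Mod O) : Function.Bijective (fun f : freeOn O U ⟶ F =>
    can O U ≫ (SheafOfModules.toSheaf (ringSh O)).map f) := by
  rw [← Function.Bijective.of_comp_iff' (CohtopA.FreeAb.homEv_bijective (J := J) U _)]
  have : (CohtopA.FreeAb.homEv (J := J) U ((SheafOfModules.toSheaf (ringSh O)).obj F)) ∘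
      (fun f : freeOn O U ⟶ F => can O U ≫ (SheafOfModules.toSheaf (ringSh O)).map f) =
        (homEquiv U F : (freeOn O U ⟶ F) → sect F U) := by
    funext f
    change CohtopA.FreeAb.homEv U _ (can O U ≫ (SheafOfModules.toSheaf (ringSh O)).map f) = _
    rw [CohtopA.FreeAb.homEv_comp, homEv_can]
    rfl
  exact this ▸ (homEquiv U F).bijective

/-- `Ext_O^p(j_{U!} O_U, -)` is `H^p(U, -)` of the underlying abelian sheaf. -/
noncomputable def extFreeOnIso [HasExt.{u} (Mod O)] (U : C) (p : ℕ) :
    (Abelian.extFunctorObj (freeOn O U) p : Mod O ⥤ AddCommGrpCat.{u}) ≅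
      SheafOfModules.toSheaf (ringSh O) ⋙
        (Abelian.extFunctorObj (CohCx.freeSheaf J U) p : Sheaf J AddCommGrpCat.{u} ⥤ AddCommGrpCat.{u}) :=
  have := K578.Der.enoughInjectives O
  have := CohtopA.ModExt.toSheaf_preservesFiniteColimits (ringSh O)
  K293.ExtCop.homIso (SheafOfModules.toSheaf (ringSh O)) (can O U) (bijective_can O U)
    (fun I _ n => subsingleton_of_forall_eq 0
      (fun x => CohtopA.ModExt.ext_toSheaf_eq_zero (R := ringSh O) I n
        (CohtopA.TFree.tf_free J _) x)) p

theorem preserves_ext_freeOn [HasExt.{u} (Mod O)] (U : C) (p : ℕ) (K : Type u) [SmallCategory K]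
    (h : PreservesColimitsOfShape K
      (Abelian.extFunctorObj (CohCx.freeSheaf J U) p : Sheaf J AddCommGrpCat.{u} ⥤ AddCommGrpCat.{u})) :
    PreservesColimitsOfShape K
      (Abelian.extFunctorObj (freeOn O U) p : Mod O ⥤ AddCommGrpCat.{u}) := by
  have h0 := K296.Ab.preservesColimitsOfShape_toSheaf (ringSh O) K
  exact preservesColimitsOfShape_of_natIso (extFreeOnIso O U p).symm

theorem preserves_coproducts_of_filtered {A : Type (u + 1)} [Category.{u} A] [Abelian A]
    [HasColimitsOfSize.{u, u} A] (F : A ⥤ AddCommGrpCat.{u}) [F.Additive] (ι : Type u)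
    (h : ∀ (I : Type u) [SmallCategory I] [IsFiltered I], PreservesColimitsOfShape I F) :
    PreservesColimitsOfShape (Discrete ι) F := by
  have h0 : PreservesColimitsOfShape (Finset (Discrete ι)) F := h (Finset (Discrete ι))
  exact Groth.Agent.Proet.PresCoprod.preservesColimitsOfShape_discrete F

end K293.ExtFreeOn
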