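import Groth.Agent.ModSite.K295.Coprod
import Groth.Agent.Gaga.H976.TM1

/-!
# Sections of free modules on an arbitrary set are locally finite combinations of the basis
-/

set_option autoImplicit false

universe u

open CategoryTheory CategoryTheory.Limits Opposite

namespace K293.FreeSec

open Groth.Agent.Gaga.H976.TM1 K296.FreeOn

variable {C : Type u} [SmallCategory C] {J : GrothendieckTopology C} (O : Sheaf J CommRingCat.{u})

/-- The basis sections of the free module. -/
noncomputable def bs (I : Type u) (W : C) (i : I) :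
    (SheafOfModules.free (R := ModSite.ringSh O) I).val.obj (op W) :=
  sec (SheafOfModules.freeSection (R := ModSite.ringSh O) i) (op W)

/-- Finite combinations of the basis sections. -/
def comb (I : Type u) (W : C) :
    AddSubgroup ((SheafOfModules.free (R := ModSite.ringSh O) I).val.obj (op W)) where
  carrier := {t | ∃ (T : Finset I) (c : I → (ModSite.ringSh O).obj.obj (op W)),
    t = ∑ i ∈ T, c i • bs O I W i}
  zero_mem' := ⟨∅, 0, by simp⟩
  add_mem' := by
    classical
    rintro a b ⟨T, c, rfl⟩ ⟨T', c', rfl⟩
    refine ⟨T ∪ T', fun i => (if i ∈ T then c i else 0) + (if i ∈ T' then c' i else 0), ?_⟩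
    simp only [add_smul, Finset.sum_add_distrib, ite_smul, zero_smul, Finset.sum_ite_mem,
      Finset.union_inter_cancel_left, Finset.union_inter_cancel_right]
  neg_mem' := by
    rintro a ⟨T, c, rfl⟩
    exact ⟨T, fun i => - c i, by simp [neg_smul, Finset.sum_neg_distrib]⟩

theorem exists_comb {I : Type u} {V : C}
    (t : (SheafOfModules.free (R := ModSite.ringSh O) I).val.obj (op V)) :
    ∃ S ∈ J V, ∀ ⦃W : C⦄ (g : W ⟶ V), S g →
      ∃ (T : Finset I) (c : I → (ModSite.ringSh O).obj.obj (op W)),
        (SheafOfModules.free (R := ModSite.ringSh O) I).val.restrictₛₗ g.op t =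
          ∑ i ∈ T, c i • bs O I W i := by
  obtain ⟨S, hS, h⟩ := K295.Coprod.exists_img
    (SheafOfModules.isColimitFreeCofan (R := ModSite.ringSh O) I) t
  refine ⟨S, hS, fun W g hg => ?_⟩
  have h1 := h g hg
  have h2 : K295.Coprod.img (SheafOfModules.freeCofan (R := ModSite.ringSh O) I) W ≤ comb O I W := by
    refine (AddSubgroup.closure_le _).2 ?_
    rintro _ ⟨⟨i⟩, b, rfl⟩
    refine ⟨{i}, fun _ => b, ?_⟩
    rw [Finset.sum_singleton]
    refine (map_unit (SheafOfModules.ιFree (R := ModSite.ringSh O) i) (op W) b).trans ?_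
    rfl
  exact h2 h1

end K293.FreeSec
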