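import Groth.Agent.ModSite.K293.TermSec
import Groth.Prelude.Def_AlgSpPerf
import Mathlib.Algebra.Category.ModuleCat.Products
import Mathlib.Algebra.Category.ModuleCat.Projective
import Mathlib.RingTheory.Finiteness.Projective
import Mathlib.CategoryTheory.Idempotents.Basic

/-!
# Global sections of direct summands of finite free modules

On a ringed site with final object `X`: `E ↦ E(X)` is an equivalence between the summands of finite
free modules and the finite projective `O(X)`-modules.
-/

set_option autoImplicit false

open CategoryTheory CategoryTheory.Limits Opposite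

universe u v₁ v₂ u₁ u₂

namespace K293.GlobSec

section Abstract

variable {A : Type u₁} [Category.{v₁} A] {B : Type u₂} [Category.{v₂} B] (F : A ⥤ B)

/-- `F` is bijective on maps out of `P`. -/
def FullOn (P : A) : Prop := ∀ Y : A, Function.Bijective (fun f : P ⟶ Y => F.map f)

theorem FullOn.of_retract {P Q : A} (h : FullOn F P) (i : Q ⟶ P) (p : P ⟶ Q) (hip : i ≫ p = 𝟙 Q) :
    FullOn F Q := by
  intro Y
  constructor
  · intro f g hfg
    dsimp only at hfg
    have : F.map (p ≫ f) = F.map (p ≫ g) := by rw [F.map_comp, F.map_comp, hfg]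
    have := (h Y).1 this
    rw [← Category.id_comp f, ← Category.id_comp g, ← hip, Category.assoc, Category.assoc, this]
  · intro g
    obtain ⟨f, hf⟩ := (h Y).2 (F.map p ≫ g)
    refine ⟨i ≫ f, ?_⟩
    dsimp only at hf ⊢
    rw [F.map_comp, hf, ← Category.assoc, ← F.map_comp, hip, F.map_id, Category.id_comp]

theorem FullOn.of_isColimit {I : Type*} {P : I → A} (h : ∀ i, FullOn F (P i)) (c : Cofan P)
    (hc : IsColimit c) [PreservesColimit (Discrete.functor P) F] : FullOn F c.pt := by
  intro Y
  have hc' := isColimitCofanMkObjOfIsColimit F P c.inj hc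
  constructor
  · intro f g hfg
    apply Cofan.IsColimit.hom_ext hc
    intro i
    apply (h i Y).1
    dsimp only at hfg ⊢
    rw [F.map_comp, F.map_comp, hfg]
  · intro g
    choose f hf using fun i => (h i Y).2 (F.map (c.inj i) ≫ g)
    refine ⟨Cofan.IsColimit.desc hc f, ?_⟩
    apply Cofan.IsColimit.hom_ext hc'
    intro i
    dsimp only at hf ⊢
    rw [Cofan.inj, Cofan.mk_ι_app, ← F.map_comp, Cofan.IsColimit.fac, hf]

end Abstract

section

variable {C : Type u₁} [Category.{v₁} C] {J : GrothendieckTopology C} (R : Sheaf J RingCat.{u})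
  {X : C} (hX : IsTerminal X)

/-- Sections over `X`. -/
noncomputable abbrev ev (X : C) : SheafOfModules.{u} R ⥤ ModuleCat.{u} (R.obj.obj (op X)) :=
  SheafOfModules.evaluation R (op X)

instance ev_additive (X : C) : (ev R X).Additive where
  map_add := rfl

include hX in
theorem fullOn_unit : FullOn (ev R X) (SheafOfModules.unit R) := by
  intro M
  constructor
  · intro f g hfg
    exact TermSec.unit_hom_ext hX (ConcreteCategory.congr_hom hfg (1 : R.obj.obj (op X)))
  · intro g
    refine ⟨(TermSec.homEquiv M hX).symm (g.hom (1 : R.obj.obj (op X))), ?_⟩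
    apply ModuleCat.hom_ext
    apply LinearMap.ext_ring
    exact (TermSec.homEquiv M hX).apply_symm_apply (g.hom (1 : R.obj.obj (op X)))

variable [HasWeakSheafify J AddCommGrpCat.{u}] [J.WEqualsLocallyBijective AddCommGrpCat.{u}]

include hX in
theorem fullOn_free (I : Type u) [Finite I] : FullOn (ev R X) (SheafOfModules.free (R := R) I) := by
  have h1 : PreservesFiniteCoproducts (ev R X) := inferInstance
  have h2 : PreservesColimitsOfShape (Discrete I) (ev R X) := inferInstance
  exact FullOn.of_isColimit (ev R X) (fun _ => fullOn_unit R hX) (SheafOfModules.freeCofan I)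
    (SheafOfModules.isColimitFreeCofan I)

/-- Sections of a finite free module. -/
noncomputable def evFreeIso (X : C) (I : Type u) [Finite I] [DecidableEq I] :
    (ev R X).obj (SheafOfModules.free (R := R) I) ≅
      ModuleCat.of (R.obj.obj (op X)) (DirectSum I (fun _ : I => R.obj.obj (op X))) := by
  have h1 : PreservesFiniteCoproducts (ev R X) := inferInstance
  have h2 : PreservesColimitsOfShape (Discrete I) (ev R X) := inferInstance
  exact (isColimitCofanMkObjOfIsColimit (ev R X) _ _
    (SheafOfModules.isColimitFreeCofan (R := R) I)).coconePointUniqueUpToIso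
      (ModuleCat.coproductCoconeIsColimit
        (fun _ : I => ModuleCat.of (R.obj.obj (op X)) (R.obj.obj (op X))))

instance finite_evFree (X : C) (I : Type u) [Finite I] :
    Module.Finite (R.obj.obj (op X)) ((ev R X).obj (SheafOfModules.free (R := R) I)) := by
  classical
  have := Fintype.ofFinite I
  exact Module.Finite.equiv
    ((DirectSum.linearEquivFunOnFintype (R.obj.obj (op X)) I (fun _ => R.obj.obj (op X))).symm.trans
      (evFreeIso R X I).toLinearEquiv.symm)

instance projective_evFree (X : C) (I : Type u) [Finite I] :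
    Module.Projective (R.obj.obj (op X)) ((ev R X).obj (SheafOfModules.free (R := R) I)) := by
  classical
  have := Fintype.ofFinite I
  exact Module.Projective.of_equiv (evFreeIso R X I).toLinearEquiv.symm

variable {R}

include hX in
/-- `E ↦ E(X)` is fully faithful on summands of finite free modules. -/
theorem bijective_app {E : SheafOfModules.{u} R} [HasSheafify J AddCommGrpCat.{u}]
    (hE : DCoh.IsFinFreeSummandMod R E) (E' : SheafOfModules.{u} R) :
    Function.Bijective (fun φ : E ⟶ E' => φ.val.app (op X)) := by
  obtain ⟨n, i, p, hip⟩ := hE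
  exact (fullOn_free R hX (ULift.{u} (Fin n))).of_retract (ev R X) i p hip E'

theorem finite_projective_of_summand [HasSheafify J AddCommGrpCat.{u}] (X : C)
    {E : SheafOfModules.{u} R} (hE : DCoh.IsFinFreeSummandMod R E) :
    Module.Finite (R.obj.obj (op X)) (E.val.obj (op X)) ∧
      Module.Projective (R.obj.obj (op X)) (E.val.obj (op X)) := by
  obtain ⟨n, i, p, hip⟩ := hE
  let i' : E.val.obj (op X) →ₗ[R.obj.obj (op X)]
      ((ev R X).obj (SheafOfModules.free (R := R) (ULift.{u} (Fin n)))) := ((ev R X).map i).hom
  let p' : ((ev R X).obj (SheafOfModules.free (R := R) (ULift.{u} (Fin n))))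
      →ₗ[R.obj.obj (op X)] E.val.obj (op X) := ((ev R X).map p).hom
  have h : p' ∘ₗ i' = LinearMap.id := by
    have h1 : (ev R X).map i ≫ (ev R X).map p = 𝟙 _ := by rw [← CategoryTheory.Functor.map_comp, hip, CategoryTheory.Functor.map_id]
    exact congrArg ModuleCat.Hom.hom h1
  constructor
  · exact Module.Finite.of_surjective p' (fun x => ⟨i' x, LinearMap.congr_fun h x⟩)
  · exact Module.Projective.of_split i' p' h

include hX in
/-- Every finite projective module over `R(X)` comes from a summand of a finite free module. -/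
theorem exists_summand [HasSheafify J AddCommGrpCat.{u}] (M : ModuleCat.{u} (R.obj.obj (op X)))
    (h1 : Module.Finite (R.obj.obj (op X)) M) (h2 : Module.Projective (R.obj.obj (op X)) M) :
    ∃ E : SheafOfModules.{u} R, DCoh.IsFinFreeSummandMod R E ∧ Nonempty (E.val.obj (op X) ≅ M) := by
  classical
  obtain ⟨n, f, g, -, -, hfg⟩ := Module.Finite.exists_comp_eq_id_of_projective (R.obj.obj (op X)) M
  let I := ULift.{u} (Fin n)
  let L := SheafOfModules.free (R := R) I
  let e1 : (Fin n → R.obj.obj (op X)) ≃ₗ[R.obj.obj (op X)] (ev R X).obj L :=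
    ((DirectSum.linearEquivFunOnFintype _ I (fun _ => R.obj.obj (op X))).trans
      (LinearEquiv.funCongrLeft _ _ Equiv.ulift.symm)).symm.trans
      (evFreeIso R X I).toLinearEquiv.symm
  let s : M ⟶ (ev R X).obj L := ModuleCat.ofHom (e1.toLinearMap ∘ₗ g)
  let r : (ev R X).obj L ⟶ M := ModuleCat.ofHom (f ∘ₗ e1.symm.toLinearMap)
  have hsr : s ≫ r = 𝟙 M := by
    apply ModuleCat.hom_ext
    ext x
    change f (e1.symm (e1 (g x))) = x
    rw [LinearEquiv.symm_apply_apply]
    exact LinearMap.congr_fun hfg x
  obtain ⟨e, he⟩ := (fullOn_free R hX I L).2 (r ≫ s)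
  dsimp only at he
  have hidem : e ≫ e = e := by
    apply (fullOn_free R hX I L).1
    dsimp only
    rw [Functor.map_comp, he, Category.assoc, ← Category.assoc s r s, hsr, Category.id_comp]
  obtain ⟨E, i, p, hip, hpi⟩ := IsIdempotentComplete.idempotents_split L e hidem
  have hpi' : (ev R X).map p ≫ (ev R X).map i = r ≫ s := by
    rw [← Functor.map_comp, hpi, he]
  have hip' : (ev R X).map i ≫ (ev R X).map p = 𝟙 _ := by
    rw [← CategoryTheory.Functor.map_comp, hip, CategoryTheory.Functor.map_id]
  let iso : (ev R X).obj E ≅ M :=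
    { hom := (ev R X).map i ≫ r
      inv := s ≫ (ev R X).map p
      hom_inv_id := by
        rw [Category.assoc, ← Category.assoc r s, ← hpi', Category.assoc, hip', Category.comp_id, hip']
      inv_hom_id := by
        rw [Category.assoc, ← Category.assoc ((ev R X).map p), hpi', Category.assoc, hsr,
          Category.comp_id, hsr] }
  exact ⟨E, ⟨n, i, p, hip⟩, ⟨iso⟩⟩

end

end K293.GlobSec
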