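import Groth.Agent.ModSite.K291.Mon

/-!
# Invertible modules on a ringed site

`L` is invertible if `L ⊗ -` is an equivalence.
-/

set_option autoImplicit false

open CategoryTheory MonoidalCategory CategoryTheory.Limits Opposite

universe u v₁ v₂ u₁ u₂

namespace K293.Inv

section Monoidal

variable {A : Type u₁} [Category.{v₁} A] [MonoidalCategory A]

theorem isEquivalence_tensorLeft_tensor {L N : A} (hL : (tensorLeft L).IsEquivalence)
    (hN : (tensorLeft N).IsEquivalence) : (tensorLeft (L ⊗ N)).IsEquivalence :=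
  Functor.isEquivalence_of_iso (tensorLeftTensor L N).symm

theorem isEquivalence_tensorLeft_unit : (tensorLeft (𝟙_ A)).IsEquivalence :=
  Functor.isEquivalence_of_iso (leftUnitorNatIso A).symm

theorem isEquivalence_tensorLeft_of_iso {L N : A} (hL : (tensorLeft L).IsEquivalence) (e : L ≅ N) :
    (tensorLeft N).IsEquivalence :=
  Functor.isEquivalence_of_iso ((tensoringLeft A).mapIso e)

/-- A left tensor-inverse of an invertible object is invertible. -/
theorem isEquivalence_tensorLeft_of_left_inverse {L N : A} (hL : (tensorLeft L).IsEquivalence)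
    (e : N ⊗ L ≅ 𝟙_ A) : (tensorLeft N).IsEquivalence := by
  have h1 : (tensorLeft (N ⊗ L)).IsEquivalence :=
    isEquivalence_tensorLeft_of_iso isEquivalence_tensorLeft_unit e.symm
  have h2 : (tensorLeft L ⋙ tensorLeft N).IsEquivalence :=
    Functor.isEquivalence_of_iso (tensorLeftTensor N L)
  exact Functor.isEquivalence_of_comp_left (tensorLeft L) (tensorLeft N)

/-- An invertible object has a right tensor-inverse. -/
theorem exists_right_inverse {L : A} (hL : (tensorLeft L).IsEquivalence) :
    ∃ N : A, Nonempty (L ⊗ N ≅ 𝟙_ A) :=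
  ⟨_, ⟨(tensorLeft L).objObjPreimageIso (𝟙_ A)⟩⟩

/-- An object with two-sided tensor-inverse is invertible. -/
theorem isEquivalence_tensorLeft_of_inverse {L N : A} (e : N ⊗ L ≅ 𝟙_ A) (e' : L ⊗ N ≅ 𝟙_ A) :
    (tensorLeft L).IsEquivalence :=
  (CategoryTheory.Equivalence.mk (tensorLeft L) (tensorLeft N)
    ((leftUnitorNatIso A).symm ≪≫ ((tensoringLeft A).mapIso e).symm ≪≫ tensorLeftTensor N L)
    ((tensorLeftTensor L N).symm ≪≫ ((tensoringLeft A).mapIso e') ≪≫
      leftUnitorNatIso A)).isEquivalence_functor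

end Monoidal

section Map

variable {A : Type u₁} [Category.{v₁} A] [MonoidalCategory A]
  {B : Type u₂} [Category.{v₂} B] [MonoidalCategory B] [BraidedCategory B]

/-- If `F` commutes with tensor products and units up to isomorphism, it preserves invertible
objects. -/
theorem isEquivalence_tensorLeft_map (F : A ⥤ B) (hu : Nonempty (F.obj (𝟙_ A) ≅ 𝟙_ B))
    (ht : ∀ X Y : A, Nonempty (F.obj (X ⊗ Y) ≅ F.obj X ⊗ F.obj Y)) {L : A}
    (hL : (tensorLeft L).IsEquivalence) : (tensorLeft (F.obj L)).IsEquivalence := by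
  obtain ⟨N, ⟨e⟩⟩ := exists_right_inverse hL
  obtain ⟨u⟩ := hu
  obtain ⟨t⟩ := ht L N
  have e1 : F.obj L ⊗ F.obj N ≅ 𝟙_ B := t.symm ≪≫ F.mapIso e ≪≫ u
  exact isEquivalence_tensorLeft_of_inverse ((β_ _ _) ≪≫ e1) e1

end Map

section Site

open K291.Mon

variable {C : Type u} [SmallCategory C] {J : GrothendieckTopology C} {O : Sheaf J CommRingCat.{u}}

theorem isEquivalence_iff (L : ModSite.Mod O) :
    ((ModSite.tensorBi O).obj L).IsEquivalence ↔ (tensorLeft L).IsEquivalence :=
  ⟨fun _ => Functor.isEquivalence_of_iso (objIso O L),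
    fun _ => Functor.isEquivalence_of_iso (objIso O L).symm⟩

theorem isEquivalence_flip (L : ModSite.Mod O) (hL : ((ModSite.tensorBi O).obj L).IsEquivalence) :
    ((ModSite.tensorBi O).flip.obj L).IsEquivalence :=
  Functor.isEquivalence_of_iso (objIsoFlip O L)

theorem isIso_counit (L : ModSite.Mod O) (hL : ((ModSite.tensorBi O).obj L).IsEquivalence)
    [ModSite.HasSheafHom L] (M : ModSite.Mod O) : IsIso ((ModSite.sheafHomAdj L).counit.app M) := by
  have := isEquivalence_flip L hL
  infer_instance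

theorem isEquivalence_tensor (L N : ModSite.Mod O) (hL : ((ModSite.tensorBi O).obj L).IsEquivalence)
    (hN : ((ModSite.tensorBi O).obj N).IsEquivalence) :
    ((ModSite.tensorBi O).obj (((ModSite.tensorBi O).obj L).obj N)).IsEquivalence := by
  rw [isEquivalence_iff] at hL hN ⊢
  exact isEquivalence_tensorLeft_tensor hL hN

theorem isEquivalence_dual (L : ModSite.Mod O) (hL : ((ModSite.tensorBi O).obj L).IsEquivalence)
    [ModSite.HasSheafHom L] :
    ((ModSite.tensorBi O).obj ((ModSite.sheafHom L).obj (ModSite.unit O))).IsEquivalence := by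
  let e : (ModSite.sheafHom L).obj (ModSite.unit O) ⊗ L ≅ 𝟙_ (ModSite.Mod O) :=
    @asIso _ _ _ _ _ (isIso_counit L hL (ModSite.unit O))
  rw [isEquivalence_iff] at hL ⊢
  exact isEquivalence_tensorLeft_of_left_inverse hL e

theorem exists_inverse (L : ModSite.Mod O) (hL : ((ModSite.tensorBi O).obj L).IsEquivalence) :
    ∃ N : ModSite.Mod O, Nonempty (((ModSite.tensorBi O).obj L).obj N ≅ ModSite.unit O) := by
  rw [isEquivalence_iff] at hL
  exact exists_right_inverse hL

theorem isEquivalence_of_inverse (L N : ModSite.Mod O)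
    (e : ((ModSite.tensorBi O).obj L).obj N ≅ ModSite.unit O) :
    ((ModSite.tensorBi O).obj L).IsEquivalence := by
  rw [isEquivalence_iff]
  let e' : L ⊗ N ≅ 𝟙_ (ModSite.Mod O) := e
  exact isEquivalence_tensorLeft_of_inverse ((β_ _ _) ≪≫ e') e'

end Site

end K293.Inv
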