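import Groth.Agent.ModSite.K293.TensSec
import Groth.Agent.ModSite.K293.Inv
import Groth.Agent.ModSite.K292.LocFree
import Groth.Agent.ModSite.K292.FlatEq
import Mathlib.RingTheory.LocalRing.Basic

/-!
# Invertible modules on locally ringed spaces are locally free of rank one

* `exists_pairing` (any small ringed site): `⟨l, n⟩ • l' = ⟨n, l'⟩' • l`;
* `exists_basis` (ringed spaces): near a point with local stalk, an invertible module has a basis
  consisting of one section;
* `isOpen_and_bijective`: S6851.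
-/

set_option autoImplicit false

universe u

open CategoryTheory CategoryTheory.Limits Opposite MonoidalCategory TopologicalSpace

namespace K293.InvLoc

open K291.Mon K296.FreeOn K293.TensSec
open scoped K291.Mon

section Site

variable {C : Type u} [SmallCategory C] {J : GrothendieckTopology C} {O : Sheaf J CommRingCat.{u}}

/-- The value of a pairing on sections. -/
noncomputable def pr {L N : ModSite.Mod O} (e : L ⊗ N ⟶ ModSite.unit O) {V : C}
    (l : ModSite.sect L V) (n : ModSite.sect N V) : Rg O V := ap e V (tm l n)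

theorem pr_smul_left {L N : ModSite.Mod O} (e : L ⊗ N ⟶ ModSite.unit O) {V : C} (r : Rg O V)
    (l : ModSite.sect L V) (n : ModSite.sect N V) : pr e (r • l) n = r * pr e l n := by
  unfold pr
  rw [tm_smul_left]
  exact (e.val.app (op V)).hom.map_smul r (tm l n)

theorem pr_smul_right {L N : ModSite.Mod O} (e : L ⊗ N ⟶ ModSite.unit O) {V : C} (r : Rg O V)
    (l : ModSite.sect L V) (n : ModSite.sect N V) : pr e l (r • n) = r * pr e l n := by
  unfold pr
  rw [tm_smul_right]
  exact (e.val.app (op V)).hom.map_smul r (tm l n)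

theorem pr_zero_left {L N : ModSite.Mod O} (e : L ⊗ N ⟶ ModSite.unit O) {V : C}
    (n : ModSite.sect N V) : pr e (0 : ModSite.sect L V) n = 0 := by
  unfold pr
  rw [tm_zero_left]
  exact map_zero (ap e V)

theorem pr_rs {L N : ModSite.Mod O} (e : L ⊗ N ⟶ ModSite.unit O) {V W : C} (g : W ⟶ V)
    (l : ModSite.sect L V) (n : ModSite.sect N V) :
    pr e (rs L g l) (rs N g n) = ((ModSite.ringSh O).obj.map g.op).hom (pr e l n) := by
  unfold pr
  rw [← rs_tm, ap_rs]
  rfl

/-- The two pairings of an invertible module with its inverse. -/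
theorem exists_pairing (L : ModSite.Mod O) (hL : ((ModSite.tensorBi O).obj L).IsEquivalence) :
    ∃ (N : ModSite.Mod O) (e : L ⊗ N ≅ ModSite.unit O) (e' : N ⊗ L ⟶ ModSite.unit O),
      ∀ (V : C) (l l' : ModSite.sect L V) (n : ModSite.sect N V),
        pr e.hom l n • l' = pr e' n l' • l := by
  rw [K293.Inv.isEquivalence_iff] at hL
  obtain ⟨N, ⟨e⟩⟩ := K293.Inv.exists_right_inverse hL
  obtain ⟨e', he'⟩ := (tensorLeft L).map_surjective
    ((α_ L N L).inv ≫ (e.hom ▷ L) ≫ (λ_ L).hom ≫ (ρ_ L).inv)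
  refine ⟨N, e, e', fun V l l' n => ?_⟩
  have h1 : (α_ L N L).hom ≫ (L ◁ e') ≫ (ρ_ L).hom = (e.hom ▷ L) ≫ (λ_ L).hom := by
    rw [show L ◁ e' = _ from he']
    simp
  have h2 := congrArg (fun z : (L ⊗ N) ⊗ L ⟶ L => ap z V (tm (tm l n) l')) h1
  simp only [ap_comp] at h2
  rw [ap_associator, ap_whiskerLeft, ap_whiskerRight] at h2
  exact ((ap_leftUnitor (pr e.hom l n) l').symm.trans h2.symm).trans
    (ap_rightUnitor l (pr e' n l'))

end Site

section Space

open K292.Germ K292.FlatEq K292.LocFree Groth.Agent.Gaga.H976.TM3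

variable {X : TopCat.{u}} {O : Sheaf (Opens.grothendieckTopology X) CommRingCat.{u}}

theorem gr_one (x : X) {U : Opens X} (hx : x ∈ U) : gr O x hx 1 = 1 :=
  map_one ((pt x).toPresheafFiber U ⟨⟨hx⟩⟩ O.obj).hom

/-- A function with invertible germ is invertible near the point. -/
theorem exists_inv (x : X) {U : Opens X} (hx : x ∈ U) (r : (ModSite.ringSh O).obj.obj (op U))
    (h : IsUnit (gr O x hx r)) :
    ∃ (V : Opens X) (hV : V ≤ U) (_ : x ∈ V) (s : (ModSite.ringSh O).obj.obj (op V)),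
      s * rr hV r = 1 := by
  obtain ⟨b, hb⟩ := h.exists_left_inv
  obtain ⟨V, hV, hxV, s, hs⟩ := exists_grs (O := O) x (fun _ : Unit => b) U hx
  have h1 : gr O x hxV (s () * rr hV r) = gr O x hxV 1 := by
    rw [gr_mul, gr_rr, hs, hb, gr_one]
  obtain ⟨W, hW, hxW, h2⟩ := (gr_eq_iff x hxV _ _).1 h1
  refine ⟨W, hW.trans hV, hxW, rr hW (s ()), ?_⟩
  rw [← rr_rr hV hW, ← map_mul, h2, map_one]

theorem isUnit_gr (x : X) {U : Opens X} (hx : x ∈ U) (r s : (ModSite.ringSh O).obj.obj (op U))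
    (h : s * r = 1) : IsUnit (gr O x hx r) := by
  refine isUnit_iff_exists_inv'.2 ⟨gr O x hx s, ?_⟩
  rw [← gr_mul, h, gr_one]

/-- Near a point with local stalk, an invertible module has a basis consisting of one section. -/
theorem exists_basis (L : ModSite.Mod O) (hL : ((ModSite.tensorBi O).obj L).IsEquivalence) (x : X)
    (hO : IsLocalRing (ModSite.stalkRing (pt x) O)) :
    ∃ (V : Opens X) (_ : x ∈ V) (m : L.val.obj (op V)), IsBas L V (fun _ : Fin 1 => m) := by
  obtain ⟨N, e, e', hp⟩ := exists_pairing L hL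
  -- write `1` as a sum of values of the pairing
  let one : ModSite.sect (ModSite.unit O) (⊤ : Opens X) :=
    (1 : (ModSite.ringSh O).obj.obj (op (⊤ : Opens X)))
  obtain ⟨S, hS, H⟩ := exists_sum_tm (ap e.inv (⊤ : Opens X) one)
  obtain ⟨V, i, hi, hxV⟩ := hS x trivial
  obtain ⟨k, m, n, hmn⟩ := H i hi
  have h1 : (1 : Rg O V) = ∑ j, pr e.hom (m j) (n j) := by
    have h2 := congrArg (ap e.hom V) hmn
    rw [map_sum, ap_rs, ← ap_comp, e.inv_hom_id, ap_id] at h2
    refine Eq.trans ?_ h2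
    exact (map_one ((ModSite.ringSh O).obj.map i.op).hom).symm
  have h2 : ∑ j, gr O x hxV (pr e.hom (m j) (n j)) = 1 := by
    rw [← gr_sum, ← h1]
    exact gr_one x hxV
  have h3 : ∃ j, IsUnit (gr O x hxV (pr e.hom (m j) (n j))) := by
    by_contra hcon
    push Not at hcon
    have h4 : ∑ j, gr O x hxV (pr e.hom (m j) (n j)) ∈
        IsLocalRing.maximalIdeal (ModSite.stalkRing (pt x) O) :=
      sum_mem fun j _ => (IsLocalRing.mem_maximalIdeal _).2 (hcon j)
    rw [h2] at h4
    exact (IsLocalRing.maximalIdeal.isMaximal _).ne_top ((Ideal.eq_top_iff_one _).2 h4)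
  obtain ⟨j, hj⟩ := h3
  obtain ⟨W, hW, hxW, s, hs⟩ := exists_inv x hxV _ hj
  let g : W ⟶ V := homOfLE hW
  let m' : ModSite.sect L W := rs L g (m j)
  let n' : ModSite.sect N W := (show (ModSite.ringSh O).obj.obj (op W) from s) •
    (rs N g (n j))
  have hmn' : pr e.hom m' n' = 1 := by
    change pr e.hom (rs L g (m j)) ((show Rg O W from s) • (rs N g (n j))) = 1
    rw [pr_smul_right, pr_rs]
    exact hs
  have hone : ∀ {W' : Opens X} (h : W' ≤ W), pr e.hom (rs L (homOfLE h) m') (rs N (homOfLE h) n') = 1 := by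
    intro W' h
    rw [pr_rs, hmn', map_one]
  refine ⟨W, hxW, m', fun W' h t => ?_, fun W' h c hc => ?_⟩
  · refine ⟨fun _ => pr e' (rs N (homOfLE h) n') t, ?_⟩
    rw [Fin.sum_univ_one]
    have h5 := hp W' (rs L (homOfLE h) m') t (rs N (homOfLE h) n')
    rw [hone h, one_smul] at h5
    exact h5
  · rw [Fin.sum_univ_one] at hc
    funext j
    have h5 : pr e.hom (c 0 • rs L (homOfLE h) m') (rs N (homOfLE h) n') = 0 := by
      rw [show c 0 • rs L (homOfLE h) m' = 0 from hc, pr_zero_left]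
    rw [pr_smul_left, hone h, mul_one] at h5
    rw [Fin.fin_one_eq_zero j]
    exact h5

variable {L : ModSite.Mod O} {V : Opens X} {m : L.val.obj (op V)}

theorem smul_ge_eq_zero (hm : IsBas L V (fun _ : Fin 1 => m)) {y : X} (hy : y ∈ V)
    (a : ModSite.stalkRing (pt y) O) (h : a • ge L y hy m = 0) : a = 0 := by
  obtain ⟨W, hW, hyW, r, hr⟩ := exists_grs (O := O) y (fun _ : Unit => a) V hy
  have h1 : ge L y hyW (r () • rs L hW m) = ge L y hyW 0 := by
    rw [ge_smul, hr, ge_rs, h, ge_zero]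
  obtain ⟨W', hW', hyW', h2⟩ := (ge_eq_iff L y hyW _ _).1 h1
  have h3 := hm.2 W' (hW'.trans hW) (fun _ => rr hW' (r ())) (by
    rw [Fin.sum_univ_one]
    rw [rs_smul, rs_rs, map_zero] at h2
    exact h2)
  have h4 : rr hW' (r ()) = 0 := congrFun h3 0
  rw [← hr (), ← gr_rr y hW' hyW', h4, gr_zero]

theorem exists_smul_ge (hm : IsBas L V (fun _ : Fin 1 => m)) {y : X} (hy : y ∈ V)
    (z : ModSite.stalkAb (pt y) L) : ∃ a : ModSite.stalkRing (pt y) O, a • ge L y hy m = z := by
  obtain ⟨W, hW, hyW, t, ht⟩ := exists_ges L y (fun _ : Unit => z) V hy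
  obtain ⟨c, hc⟩ := hm.1 W hW (t ())
  rw [Fin.sum_univ_one] at hc
  refine ⟨gr O y hyW (c 0), ?_⟩
  rw [← ht (), hc, ge_smul, ge_rs]

theorem smul_ge_mem_iff (hm : IsBas L V (fun _ : Fin 1 => m)) {y : X} (hy : y ∈ V)
    (I : Ideal (ModSite.stalkRing (pt y) O)) (a : ModSite.stalkRing (pt y) O) :
    a • ge L y hy m ∈ I • (⊤ : Submodule (ModSite.stalkRing (pt y) O) (ModSite.stalkAb (pt y) L)) ↔
      a ∈ I := by
  constructor
  · intro h
    have h1 : (⊤ : Submodule (ModSite.stalkRing (pt y) O) (ModSite.stalkAb (pt y) L)) =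
        Submodule.span _ {ge L y hy m} := by
      rw [eq_comm, eq_top_iff]
      intro z _
      obtain ⟨b, rfl⟩ := exists_smul_ge hm hy z
      exact Submodule.smul_mem _ _ (Submodule.mem_span_singleton_self _)
    rw [h1, Submodule.mem_smul_span_singleton] at h
    obtain ⟨b, hb, hba⟩ := h
    have h2 : (b - a) • ge L y hy m = 0 := by rw [sub_smul, hba, sub_self]
    rwa [← sub_eq_zero.1 (smul_ge_eq_zero hm hy _ h2)]
  · intro h
    exact Submodule.smul_mem_smul h trivial

theorem isOpen_and_bijective (hO : ∀ x : X, IsLocalRing (ModSite.stalkRing (pt x) O))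
    (L : ModSite.Mod O) (hL : ((ModSite.tensorBi O).obj L).IsEquivalence) (U : Opens X)
    (s : ModSite.sect L U) :
    IsOpen {x : X | ∃ hx : x ∈ U, ge L x hx s ∉
      (@IsLocalRing.maximalIdeal (ModSite.stalkRing (pt x) O) _ (hO x)) •
        (⊤ : Submodule (ModSite.stalkRing (pt x) O) (ModSite.stalkAb (pt x) L))} ∧
      ∀ (x : X) (hx : x ∈ U), ge L x hx s ∉
        (@IsLocalRing.maximalIdeal (ModSite.stalkRing (pt x) O) _ (hO x)) •
          (⊤ : Submodule (ModSite.stalkRing (pt x) O) (ModSite.stalkAb (pt x) L)) →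
        Function.Bijective (fun a : ModSite.stalkRing (pt x) O => a • ge L x hx s) := by
  have key : ∀ (x : X) (hx : x ∈ U), ∃ (V : Opens X) (hV : V ≤ U) (_ : x ∈ V) (m : L.val.obj (op V))
      (c : (ModSite.ringSh O).obj.obj (op V)), IsBas L V (fun _ : Fin 1 => m) ∧
        rs L hV s = c • m := by
    intro x hx
    obtain ⟨V, hxV, m, hm⟩ := exists_basis L hL x (hO x)
    have hm' := hm.mono (inf_le_left : V ⊓ U ≤ V)
    obtain ⟨c, hc⟩ := hm'.1 (V ⊓ U) le_rfl (rs L inf_le_right s)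
    rw [Fin.sum_univ_one] at hc
    simp only [rs_self] at hc
    exact ⟨V ⊓ U, inf_le_right, ⟨hxV, hx⟩, _, c 0, hm', hc⟩
  have key2 : ∀ {V : Opens X} (hV : V ≤ U) {m : L.val.obj (op V)}
      {c : (ModSite.ringSh O).obj.obj (op V)} (_ : rs L hV s = c • m) (y : X) (hy : y ∈ V),
      ge L y (hV hy) s = gr O y hy c • ge L y hy m := by
    intro V hV m c hc y hy
    rw [← ge_rs L y hV hy, hc, ge_smul]
  constructor
  · rw [isOpen_iff_forall_mem_open]
    rintro x ⟨hx, hs⟩
    obtain ⟨V, hV, hxV, m, c, hm, hc⟩ := key x hx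
    rw [key2 hV hc x hxV, smul_ge_mem_iff hm hxV, @IsLocalRing.mem_maximalIdeal _ _ (hO x),
      mem_nonunits_iff, not_not] at hs
    obtain ⟨W, hW, hxW, r, hr⟩ := exists_inv x hxV c hs
    refine ⟨W, fun y hy => ⟨hV (hW hy), ?_⟩, W.2, hxW⟩
    rw [key2 hV hc y (hW hy), smul_ge_mem_iff hm (hW hy), @IsLocalRing.mem_maximalIdeal _ _ (hO y),
      mem_nonunits_iff, not_not]
    have := isUnit_gr y hy _ _ hr
    rwa [gr_rr] at this
  · intro x hx hs
    obtain ⟨V, hV, hxV, m, c, hm, hc⟩ := key x hx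
    rw [key2 hV hc x hxV] at hs ⊢
    rw [smul_ge_mem_iff hm hxV, @IsLocalRing.mem_maximalIdeal _ _ (hO x),
      mem_nonunits_iff, not_not] at hs
    obtain ⟨b, hb⟩ := hs.exists_left_inv
    constructor
    · intro a a' haa'
      have h1 : ((a - a') * gr O x hxV c) • ge L x hxV m = 0 := by
        have h2 : a • gr O x hxV c • ge L x hxV m = a' • gr O x hxV c • ge L x hxV m := haa'
        rw [mul_smul, sub_smul, h2, sub_self]
      have h2 := smul_ge_eq_zero hm hxV _ h1
      have h3 : (a - a') * gr O x hxV c * b = 0 := by rw [h2, zero_mul]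
      rw [mul_assoc, mul_comm (gr O x hxV c) b, hb, mul_one] at h3
      exact sub_eq_zero.1 h3
    · intro z
      obtain ⟨a, rfl⟩ := exists_smul_ge hm hxV z
      refine ⟨a * b, ?_⟩
      change (a * b) • gr O x hxV c • ge L x hxV m = _
      rw [← mul_smul, mul_assoc, hb, mul_one]

end Space

end K293.InvLoc
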