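import Groth.Agent.ModSite.K293.Inv
import Groth.Agent.ModSite.K293.PullUnit
import Groth.Agent.S6158

/-!
# The inverse image of an invertible module is invertible
-/

set_option autoImplicit false

universe u

open CategoryTheory

namespace K293.InvPull

open scoped K291.Mon

variable {C D : Type u} [SmallCategory C] [SmallCategory D] {J : GrothendieckTopology C}
  {K : GrothendieckTopology D} {O_C : Sheaf J CommRingCat.{u}} {O_D : Sheaf K CommRingCat.{u}}

theorem isEquivalence_pull (f : ModSite.RMor O_C O_D) (L : ModSite.Mod O_D)
    (hL : ((ModSite.tensorBi O_D).obj L).IsEquivalence) :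
    ((ModSite.tensorBi O_C).obj (f.pull.obj L)).IsEquivalence := by
  rw [K293.Inv.isEquivalence_iff] at hL ⊢
  exact K293.Inv.isEquivalence_tensorLeft_map f.pull
    ⟨K293.PullUnit.pullUnitIso f⟩
    (fun M N => ⟨(Groth.Agent.S6158.result f M N).some.symm⟩) hL

end K293.InvPull
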