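import Groth.Agent.ModSite.K293.StalkBasis
import Groth.Agent.ModSite.K292.LocFree

/-!
# Finitely presented modules with free stalk are free near the point

* `exists_iso_free`: local generators without relations give a trivialisation;
* `exists_iso_of_stalkBasis`: a module of finite presentation near `x` with a finite basis of the
  stalk at `x` is trivial near `x`.
-/

set_option autoImplicit false

universe u

open CategoryTheory CategoryTheory.Limits Opposite TopologicalSpace

namespace K293.LocFreePt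

open Groth.Agent.Gaga.H976.TM0 Groth.Agent.Gaga.H976.TM1 Groth.Agent.Gaga.H976.TM2
open Groth.Agent.Gaga.H976.TM3 K292.Sp K292.Germ K292.FlatEq

variable {X : TopCat.{u}} {O : Sheaf (Opens.grothendieckTopology X) CommRingCat.{u}}

/-- Local generators without relations trivialise a module. -/
theorem exists_iso_free {F : ModSite.Mod O} {U : Opens X} {r : ℕ} (s : Fin r → F.val.obj (op U))
    (h1 : LGen F U s)
    (h2 : ∀ (V : Opens X) (hV : V ≤ U) (c : Fin r → (ModSite.ringSh O).obj.obj (op V)),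
      ∑ j, c j • rs F hV (s j) = 0 → c = 0) :
    Nonempty ((ModSite.restr O U).obj F ≅ SheafOfModules.free (ULift.{u} (Fin r))) := by
  classical
  let σ : ULift.{u} (Fin r) → (F.over U).sections := fun j => toSec F U (s j.down)
  let f : SheafOfModules.free (R := (ModSite.ringSh O).over U) (ULift.{u} (Fin r)) ⟶ F.over U :=
    (F.over U).freeHomEquiv.symm σ
  have he : Epi f := (epi_iff_gen σ).2 (gen_of_lgen s h1)
  have hm : Mono f := by
    rw [mono_iff]
    intro Y
    refine (injective_iff_map_eq_zero (f.val.app Y).hom).2 fun t ht => ?_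
    have h3 := (map_free f Y t).symm.trans ht
    have h4 : ∀ j, sec ((F.over U).freeHomEquiv f j) Y =
        (show (F.over U).val.obj Y from rs F (leOfHom Y.unop.hom) (s j.down)) := by
      intro j
      have h5 : (F.over U).freeHomEquiv f j = σ j :=
        congrFun (Equiv.apply_symm_apply (F.over U).freeHomEquiv σ) j
      rw [h5]
      rfl
    have h6 : ∑ j : Fin r, (show (ModSite.ringSh O).obj.obj (op Y.unop.left) from
        co (R := (ModSite.ringSh O).over U) t ⟨j⟩) • rs F (leOfHom Y.unop.hom) (s j) = 0 := by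
      refine Eq.trans ?_ h3
      rw [← Equiv.sum_comp Equiv.ulift.{u}.symm]
      refine Finset.sum_congr rfl fun j _ => ?_
      exact congrArg (fun z : (F.over U).val.obj Y =>
      co (R := (ModSite.ringSh O).over U) t ⟨j⟩ • z) (h4 ⟨j⟩).symm
    have h7 := h2 Y.unop.left (leOfHom Y.unop.hom) _ h6
    rw [← ofCo_co (R := (ModSite.ringSh O).over U) t]
    refine Finset.sum_eq_zero fun j _ => ?_
    have h8 : co (R := (ModSite.ringSh O).over U) t j = 0 := congrFun h7 j.down
    rw [h8]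
    exact zero_smul _ _
  have : IsIso f := isIso_of_mono_of_epi f
  exact ⟨(asIso f).symm⟩

/-- The algebraic step. -/
theorem chain {R : Type*} [Ring R] {n m r : ℕ} (a : Fin n → Fin r → R) (β : Fin r → Fin n → R)
    (ρ : Fin m → Fin n → R) (c : Fin r → R) (d : Fin m → R)
    (hcd : ∀ j, ∑ i, c i * β i j = ∑ k, d k * ρ k j)
    (hA : ∀ k i', ∑ j, ρ k j * a j i' = 0)
    (hB : ∀ i i', (if i = i' then (1 : R) else 0) = ∑ j, β i j * a j i') : c = 0 := by
  funext i'
  have h1 : c i' = ∑ i, c i * (if i = i' then (1 : R) else 0) := by simp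
  rw [h1]
  have h2 : ∑ i, c i * (if i = i' then (1 : R) else 0) = ∑ i, c i * ∑ j, β i j * a j i' :=
    Finset.sum_congr rfl fun i _ => by rw [hB]
  have h3 : ∑ i, c i * ∑ j, β i j * a j i' = ∑ j, (∑ i, c i * β i j) * a j i' := by
    simp only [Finset.mul_sum, Finset.sum_mul, mul_assoc]
    exact Finset.sum_comm
  have h4 : ∑ j, (∑ i, c i * β i j) * a j i' = ∑ k, d k * ∑ j, ρ k j * a j i' := by
    simp only [hcd, Finset.mul_sum, Finset.sum_mul, mul_assoc]
    exact Finset.sum_comm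
  rw [h2, h3, h4]
  exact Finset.sum_eq_zero fun k _ => by rw [hA, mul_zero]

theorem rr_sum {U V : Opens X} (h : V ≤ U) {ι : Type*} (S : Finset ι)
    (t : ι → (ModSite.ringSh O).obj.obj (op U)) :
    rr h (∑ i ∈ S, t i) = ∑ i ∈ S, rr h (t i) := map_sum (rr h) t S

theorem eq_zero_ring {U : Opens X} (c : (ModSite.ringSh O).obj.obj (op U))
    (h : ∀ x ∈ U, ∃ (V : Opens X) (hV : V ≤ U), x ∈ V ∧ rr hV c = 0) : c = 0 :=
  eq_zero_of_loc (ModSite.unit O) (U := U) c h

theorem exists_iso_of_stalkBasis {F : ModSite.Mod O} {x : X} (hF : FPAt F x) {r : ℕ}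
    (b : Module.Basis (Fin r) (ModSite.stalkRing (pt x) O) (ModSite.stalkAb (pt x) F)) :
    ∃ U : Opens X, x ∈ U ∧
      Nonempty ((ModSite.restr O U).obj F ≅ SheafOfModules.free (ULift.{u} (Fin r))) := by
  classical
  obtain ⟨W, hxW, n, m, t, ρ, hg, hr⟩ := hF
  obtain ⟨U₁, hU₁, hx₁, s, hs⟩ := exists_ges F x (fun i => b i) W hxW
  obtain ⟨U₂, hU₂, hx₂, a, ha⟩ := exists_grs (O := O) x
    (fun p : Fin n × Fin r => b.repr (ge F x hxW (t p.1)) p.2) U₁ hx₁
  have h₂ : ∀ j, ge F x hx₂ (rs F (hU₂.trans hU₁) (t j)) =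
      ge F x hx₂ (∑ i, a (j, i) • rs F hU₂ (s i)) := by
    intro j
    rw [ge_rs, ge_sum]
    refine (b.sum_repr (ge F x hxW (t j))).symm.trans ?_
    refine Finset.sum_congr rfl fun i _ => ?_
    rw [ge_smul, ge_rs, ha, hs]
  obtain ⟨U₃, hU₃, hx₃, h₃⟩ := exists_ge_eqs F x hx₂ _ _ h₂
  -- coordinates of `s i` in the `t j`
  have hU₃W : U₃ ≤ W := hU₃.trans (hU₂.trans hU₁)
  choose V' hV' hxV' β' hβ' using fun i => hg U₃ hU₃W (rs F (hU₃.trans hU₂) (s i)) x hx₃
  obtain ⟨U₄', hx₄', hU₄'⟩ := exists_common x V' hxV'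
  let U₄ := U₄' ⊓ U₃
  have hU₄ : U₄ ≤ U₃ := inf_le_right
  have hx₄ : x ∈ U₄ := ⟨hx₄', hx₃⟩
  have hU₄V : ∀ i, U₄ ≤ V' i := fun i => inf_le_left.trans (hU₄' i)
  let S : ∀ {V : Opens X} (_ : V ≤ U₄), Fin r → F.val.obj (op V) :=
    fun h i => rs F (h.trans (hU₄.trans (hU₃.trans hU₂))) (s i)
  let T : ∀ {V : Opens X} (_ : V ≤ U₄), Fin n → F.val.obj (op V) :=
    fun h j => rs F (h.trans (hU₄.trans hU₃W)) (t j)
  let A : ∀ {V : Opens X} (_ : V ≤ U₄), Fin n → Fin r → (ModSite.ringSh O).obj.obj (op V) :=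
    fun h j i => rr (h.trans (hU₄.trans hU₃)) (a (j, i))
  let B : ∀ {V : Opens X} (_ : V ≤ U₄), Fin r → Fin n → (ModSite.ringSh O).obj.obj (op V) :=
    fun h i j => rr (h.trans (hU₄V i)) (β' i j)
  let P : ∀ {V : Opens X} (_ : V ≤ U₄), Fin m → Fin n → (ModSite.ringSh O).obj.obj (op V) :=
    fun h k j => rr (h.trans (hU₄.trans hU₃W)) (ρ k j)
  have hT : ∀ {V : Opens X} (h : V ≤ U₄) (j : Fin n), T h j = ∑ i, A h j i • S h i := by
    intro V h j
    have h1 := congrArg (rs F (h.trans hU₄)) (h₃ j)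
    simp only [rs_rs, rs_sum, rs_smul, rr_rr] at h1
    exact h1
  have hS : ∀ {V : Opens X} (h : V ≤ U₄) (i : Fin r), S h i = ∑ j, B h i j • T h j := by
    intro V h i
    have h1 := congrArg (rs F (h.trans (hU₄V i))) (hβ' i)
    simp only [rs_rs, rs_sum, rs_smul, rr_rr] at h1
    exact h1
  have hP : ∀ {V : Opens X} (h : V ≤ U₄) (k : Fin m), ∑ j, P h k j • T h j = 0 := by
    intro V h k
    have h1 := congrArg (rs F (h.trans (hU₄.trans hU₃W))) (hr.1 k)
    rw [rs_sum, map_zero] at h1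
    simpa only [rs_smul] using h1
  -- germs of relations vanish
  have hrel : ∀ (c : Fin r → (ModSite.ringSh O).obj.obj (op U₄)),
      ∑ i, c i • S le_rfl i = 0 → ∀ i, gr O x hx₄ (c i) = gr O x hx₄ 0 := by
    intro c hc i
    have h1 := congrArg (ge F x hx₄) hc
    rw [ge_sum, ge_zero] at h1
    have h2 : ∑ i, gr O x hx₄ (c i) • b i = 0 := by
      refine Eq.trans ?_ h1
      refine Finset.sum_congr rfl fun i _ => ?_
      rw [ge_smul]
      refine congrArg (fun z => gr O x hx₄ (c i) • z) ?_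
      exact ((ge_rs F x _ hx₄ (s i)).trans (hs i)).symm
    have h3 := linearIndependent_iff'.1 b.linearIndependent Finset.univ _ h2 i (Finset.mem_univ i)
    rw [h3, gr_zero]
  have hA0 : ∀ k, ∑ i, (∑ j, P le_rfl k j * A le_rfl j i) • S le_rfl i = 0 := by
    intro k
    refine Eq.trans ?_ (hP le_rfl k)
    simp only [Finset.sum_smul, mul_smul]
    rw [Finset.sum_comm]
    refine Finset.sum_congr rfl fun j _ => ?_
    rw [hT le_rfl j, Finset.smul_sum]
  have hB0 : ∀ l, ∑ i, ((if l = i then 1 else 0) - ∑ j, B le_rfl l j * A le_rfl j i) •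
      S le_rfl i = 0 := by
    intro l
    simp only [sub_smul, Finset.sum_sub_distrib, Finset.sum_smul, ite_smul, one_smul, zero_smul,
      Finset.sum_ite_eq, Finset.mem_univ, if_true, mul_smul]
    rw [sub_eq_zero]
    refine (hS le_rfl l).trans ?_
    rw [Finset.sum_comm]
    refine Finset.sum_congr rfl fun j _ => ?_
    rw [hT le_rfl j, Finset.smul_sum]
  obtain ⟨U₅, hU₅, hx₅, h₅⟩ := exists_gr_eqs (O := O) x hx₄
    (fun p : Fin m × Fin r => ∑ j, P le_rfl p.1 j * A le_rfl j p.2) (fun _ => 0)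
    (fun p => hrel _ (hA0 p.1) p.2)
  obtain ⟨U₆, hU₆, hx₆, h₆⟩ := exists_gr_eqs (O := O) x hx₄
    (fun p : Fin r × Fin r => (if p.1 = p.2 then 1 else 0) - ∑ j, B le_rfl p.1 j * A le_rfl j p.2)
    (fun _ => 0) (fun p => hrel _ (hB0 p.1) p.2)
  let U : Opens X := U₅ ⊓ U₆
  have hU : U ≤ U₄ := inf_le_left.trans hU₅
  refine ⟨U, ⟨hx₅, hx₆⟩, exists_iso_free (fun i => S hU i) ?_ ?_⟩
  · intro V hV t' y hy
    obtain ⟨V'', h', hy', c, hc⟩ := hg V (hV.trans (hU.trans (hU₄.trans hU₃W))) t' y hy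
    refine ⟨V'', h', hy', fun i => ∑ j, c j * A (h'.trans (hV.trans hU)) j i, ?_⟩
    rw [hc]
    simp only [Finset.sum_smul, mul_smul]
    rw [Finset.sum_comm]
    refine Finset.sum_congr rfl fun j _ => ?_
    rw [← Finset.smul_sum]
    congr 1
    refine (hT (h'.trans (hV.trans hU)) j).trans ?_
    refine Finset.sum_congr rfl fun i _ => ?_
    congr 1
    exact (rs_rs F _ (h'.trans hV) (s i)).symm
  · intro V hV c hc
    have hVU : V ≤ U₄ := hV.trans hU
    have hc' : ∑ i, c i • S hVU i = 0 := by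
      refine Eq.trans (Finset.sum_congr rfl fun i _ => ?_) hc
      congr 1
      exact (rs_rs F _ hV (s i)).symm
    have h7 : ∑ j, (∑ i, c i * B hVU i j) • T hVU j = 0 := by
      refine Eq.trans ?_ hc'
      simp only [Finset.sum_smul, mul_smul]
      rw [Finset.sum_comm]
      refine Finset.sum_congr rfl fun i _ => ?_
      rw [hS hVU i, Finset.smul_sum]
    have key : ∀ y ∈ V, ∃ (V' : Opens X) (hV' : V' ≤ V), y ∈ V' ∧ ∀ i, rr hV' (c i) = 0 := by
      intro y hy
      obtain ⟨V'', h'', hy'', d, hd⟩ := hr.2 V (hVU.trans (hU₄.trans hU₃W)) _ h7 y hy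
      refine ⟨V'', h'', hy'', fun i => ?_⟩
      have hW'' : V'' ≤ U₄ := h''.trans hVU
      refine congrFun (chain (A hW'') (B hW'') (P hW'') (fun i => rr h'' (c i)) d ?_ ?_ ?_) i
      · intro j
        have h8 := hd j
        rw [rr_sum] at h8
        simp only [map_mul, B, rr_rr] at h8
        exact h8
      · intro k i'
        have h8 := congrArg (rr (h''.trans (hV.trans inf_le_left))) (h₅ (k, i'))
        simp only [map_zero, rr_sum, map_mul, rr_rr, A, P] at h8
        exact h8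
      · intro i i'
        have h8 := congrArg (rr (h''.trans (hV.trans inf_le_right))) (h₆ (i, i'))
        simp only [map_zero, rr_sum, map_mul, rr_rr, A, B, map_sub] at h8
        rw [sub_eq_zero] at h8
        refine Eq.trans ?_ h8
        split_ifs <;> simp
    funext i
    refine eq_zero_ring _ fun y hy => ?_
    obtain ⟨V'', h'', hy'', h⟩ := key y hy
    exact ⟨V'', h'', hy'', h i⟩

end K293.LocFreePt
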