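import Groth.Agent.ModSite.K293.LocFreePt
import Mathlib.RingTheory.LocalRing.Module

/-!
# Summands of finite locally free modules on a locally ringed space
-/

set_option autoImplicit false

universe u

open CategoryTheory CategoryTheory.Limits Opposite TopologicalSpace

namespace K293.LocFreeSum

open Groth.Agent.Gaga.H976.TM0 Groth.Agent.Gaga.H976.TM1 Groth.Agent.Gaga.H976.TM2
open Groth.Agent.Gaga.H976.TM3 K292.Sp K292.Germ K292.FlatEq K292.LocFree K293.LocFreePt

variable {X : TopCat.{u}} {O : Sheaf (Opens.grothendieckTopology X) CommRingCat.{u}}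

/-- A summand of a module with a basis near `x` is of finite presentation near `x`. -/
theorem fpAt_summand {F H : ModSite.Mod O} (i : F ⟶ H) (p : H ⟶ F) (hip : i ≫ p = 𝟙 F) (x : X)
    {U : Opens X} (hx : x ∈ U) {n : ℕ} {b : Fin n → H.val.obj (op U)} (hb : IsBas H U b) :
    FPAt F x := by
  classical
  have hpi : ∀ {V : Opens X} (t : F.val.obj (op V)), ap p V (ap i V t) = t := by
    intro V t
    have h : ap (i ≫ p) V t = t := by rw [hip]; exact ap_id V t
    exact h
  choose E hE using fun j => hb.1 U le_rfl (ap i U (ap p U (b j)))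
  simp only [rs_self] at hE
  refine ⟨U, hx, n, n, fun j => ap p U (b j), fun j k => (if j = k then 1 else 0) - E j k, ?_, ?_, ?_⟩
  · intro V hV t y hy
    obtain ⟨c, hc⟩ := hb.1 V hV (ap i V t)
    refine ⟨V, le_rfl, hy, c, ?_⟩
    rw [rs_self, ← hpi t, hc, map_sum]
    refine Finset.sum_congr rfl fun k _ => ?_
    rw [map_smul, ap_rs]
  · intro j
    simp only [sub_smul, Finset.sum_sub_distrib, ite_smul, one_smul, zero_smul,
      Finset.sum_ite_eq, Finset.mem_univ, if_true]
    rw [sub_eq_zero]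
    have h1 := congrArg (ap p U) (hE j)
    rw [hpi, map_sum] at h1
    refine h1.trans (Finset.sum_congr rfl fun k _ => ?_)
    rw [map_smul]
  · intro V hV c hc y hy
    refine ⟨V, le_rfl, hy, c, fun k => ?_⟩
    have h1 := congrArg (ap i V) hc
    rw [map_sum, map_zero] at h1
    have h2 : ∑ k, (∑ j, c j * rr hV (E j k)) • rs H hV (b k) = 0 := by
      refine Eq.trans ?_ h1
      simp only [Finset.sum_smul, mul_smul]
      rw [Finset.sum_comm]
      refine Finset.sum_congr rfl fun j _ => ?_
      rw [map_smul, ap_rs, hE j, rs_sum, Finset.smul_sum]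
      simp only [rs_smul]
    have h3 : ∑ j, c j * rr hV (E j k) = 0 := congrFun (hb.2 V hV _ h2) k
    simp only [rr_self, map_sub, mul_sub, Finset.sum_sub_distrib]
    refine Eq.trans ?_ (congrArg (fun z => _ - z) h3.symm)
    rw [sub_zero]
    have h4 : ∀ j, rr hV (if j = k then (1 : (ModSite.ringSh O).obj.obj (op U)) else 0) =
        if j = k then 1 else 0 := fun j => by split_ifs <;> simp
    simp [h4]

/-- The stalk of a summand is a summand of the stalk. -/
theorem exists_stalk_retract {F H : ModSite.Mod O} (i : F ⟶ H) (p : H ⟶ F) (hip : i ≫ p = 𝟙 F)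
    (x : X) : ∃ (a : ModSite.stalkMod (pt x) F →ₗ[ModSite.stalkRing (pt x) O] ModSite.stalkMod (pt x) H)
      (b : ModSite.stalkMod (pt x) H →ₗ[ModSite.stalkRing (pt x) O] ModSite.stalkMod (pt x) F),
      b.comp a = LinearMap.id := by
  refine ⟨(ModSite.stalkMap (pt x) i).hom, (ModSite.stalkMap (pt x) p).hom, ?_⟩
  ext m
  obtain ⟨U, hx, s, rfl⟩ := exists_ge F x m
  change (ModSite.stalkMap (pt x) p).hom ((ModSite.stalkMap (pt x) i).hom (ge F x hx s)) = ge F x hx s
  rw [stalkMap_ge, stalkMap_ge]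
  have h : ap (i ≫ p) U s = s := by rw [hip]; exact ap_id U s
  exact congrArg (ge F x hx) h

theorem main {F H : ModSite.Mod O} (i : F ⟶ H) (p : H ⟶ F) (hip : i ≫ p = 𝟙 F) (x : X)
    (hO : IsLocalRing (ModSite.stalkRing (pt x) O))
    {U : Opens X} (hx : x ∈ U) {n : ℕ}
    (e : (ModSite.restr O U).obj H ≅ SheafOfModules.free (ULift.{u} (Fin n))) :
    ∃ (U : Opens X) (n : ℕ), x ∈ U ∧
      Nonempty ((ModSite.restr O U).obj F ≅ SheafOfModules.free (ULift.{u} (Fin n))) := by
  obtain ⟨b, hb⟩ := exists_isBas e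
  obtain ⟨β⟩ := K293.StalkBasis.exists_stalkBasis ⟨e⟩ x hx
  obtain ⟨a, q, haq⟩ := exists_stalk_retract i p hip x
  have h1 : Module.Free (ModSite.stalkRing (pt x) O) (ModSite.stalkMod (pt x) H) :=
    Module.Free.of_basis β
  have h2 : Module.Finite (ModSite.stalkRing (pt x) O) (ModSite.stalkMod (pt x) H) :=
    Module.Finite.of_basis β
  have h3 : Module.Projective (ModSite.stalkRing (pt x) O) (ModSite.stalkMod (pt x) F) :=
    Module.Projective.of_split a q haq
  have h4 : Module.Finite (ModSite.stalkRing (pt x) O) (ModSite.stalkMod (pt x) F) :=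
    Module.Finite.of_surjective q fun y => ⟨a y, LinearMap.congr_fun haq y⟩
  have h5 : Module.Free (ModSite.stalkRing (pt x) O) (ModSite.stalkMod (pt x) F) :=
    Module.free_of_flat_of_isLocalRing
  obtain ⟨V, hV, h⟩ := exists_iso_of_stalkBasis (fpAt_summand i p hip x hx hb)
    (Module.finBasis (ModSite.stalkRing (pt x) O) (ModSite.stalkMod (pt x) F))
  exact ⟨V, _, hV, h⟩

end K293.LocFreeSum
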