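import Groth.Agent.ModSite.K291.FrTens
import Groth.Agent.ModSite.K291.PullFree
import Groth.Agent.ModSite.K295.Coprod

/-!
# Sections of `j_! O` and of inverse images, locally

* `exists_mem_span_freeOn`: a section of `freeOn O V` is locally a combination of restrictions of the
  generator;
* `exists_mem_span_pull`: a section of `f^* M` is locally a combination of restrictions of pullbacks
  of sections of `M`.
-/

set_option autoImplicit false

universe u

open CategoryTheory CategoryTheory.Limits Opposite MonoidalCategory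

namespace K293.PullSec

open Groth.Agent.Dcoh K291.Mon K291.FreeOn K291.Tens K291.PullFree

section FreeOn

variable {C : Type u} [SmallCategory C] {J : GrothendieckTopology C} (O : Sheaf J CommRingCat.{u})

/-- The presheaf of modules generated by a representable presheaf. -/
noncomputable abbrev py (V : C) : PM O :=
  (PresheafOfModules.free (O.obj ⋙ forget₂ CommRingCat.{u} RingCat.{u})).obj (yoneda.obj V)

/-- The combinations of restrictions of the generator. -/
noncomputable def spn (V W : C) : Submodule (Rg O W) (ModSite.sect (ModSite.freeOn O V) W) :=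
  Submodule.span _ (Set.range fun h : W ⟶ V => rs _ h (gen O V))

/-- The comparison of the presheaf and the sheaf. -/
noncomputable def cmpl (V : C) : py O V ⟶ (toP O).obj (ModSite.freeOn O V) :=
  (shAdj O).unit.app (py O V) ≫ (toP O).map (freeOnIso O V).inv

theorem sc_inv_fg {V W : C} (h : W ⟶ V) :
    sc (freeOnIso O V).inv W (fg (A := yoneda.obj V) h) = rs _ h (gen O V) := by
  rw [← homEquiv_fg]
  have e : (frAdj O).homEquiv _ _ (freeOnIso O V).inv = yonedaEquiv.symm (gen O V) := by
    change (frAdj O).homEquiv _ _ ((homFrY _ V).symm (gen O V)) = _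
    change (frAdj O).homEquiv _ _ (((frAdj O).homEquiv _ _).symm (yonedaEquiv.symm (gen O V))) = _
    rw [Equiv.apply_symm_apply]
  rw [e]
  rfl

theorem free_induction {R : Type u} [Ring R] {X : Type u} (P : ((ModuleCat.free R).obj X) → Prop)
    (h0 : P 0) (ha : ∀ p q, P p → P q → P (p + q)) (hs : ∀ (r : R) p, P p → P (r • p))
    (hm : ∀ x : X, P (ModuleCat.freeMk x)) (p : (ModuleCat.free R).obj X) : P p := by
  change X →₀ R at p
  induction p using Finsupp.induction_linear with
  | zero => exact h0
  | add f g hf hg => exact ha f g hf hg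
  | single a b =>
    have h1 := hs b _ (hm a)
    have h2 : (b • ModuleCat.freeMk (R := R) a : (ModuleCat.free R).obj X) = Finsupp.single a b := by
      refine (Finsupp.smul_single b a (1 : R)).trans ?_
      rw [smul_eq_mul, mul_one]
    rwa [h2] at h1

/-- The comparison on sections. -/
noncomputable def cmS {V W : C} (p : (py O V).obj (op W)) : ModSite.sect (ModSite.freeOn O V) W :=
  MonW.sec (cmpl O V) (op W) p

theorem cmS_mem {V W : C} (p : (py O V).obj (op W)) : cmS O p ∈ spn O V W := by
  refine free_induction (fun p => cmS O (V := V) (W := W) p ∈ spn O V W) ?_ ?_ ?_ ?_ p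
  · change MonW.sec (cmpl O V) (op W) 0 ∈ spn O V W
    have : MonW.sec (cmpl O V) (op W) 0 = 0 := map_zero _
    rw [this]
    exact zero_mem _
  · intro p q hp hq
    have : cmS O (V := V) (W := W) (p + q) = cmS O (V := V) (W := W) p + cmS O (V := V) (W := W) q := map_add (MonW.sec (cmpl O V) (op W)) p q
    rw [this]
    exact add_mem hp hq
  · intro r p hp
    have : cmS O (V := V) (W := W) (r • p) = (show Rg O W from r) • cmS O (V := V) (W := W) p := map_smul (MonW.sec (cmpl O V) (op W)) r p
    rw [this]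
    exact Submodule.smul_mem _ _ hp
  · intro a
    change sc (freeOnIso O V).inv W (fg (A := yoneda.obj V) a) ∈ _
    rw [sc_inv_fg]
    exact Submodule.subset_span ⟨a, rfl⟩

/-- A section of `freeOn O V` is locally a combination of restrictions of the generator. -/
theorem exists_mem_spn {V W : C} (t : ModSite.sect (ModSite.freeOn O V) W) :
    ∃ S ∈ J W, ∀ ⦃W' : C⦄ (g : W' ⟶ W), S g → rs _ g t ∈ spn O V W' := by
  obtain ⟨S, hS, H⟩ := (K295.FlatCrit.LS_iff _).1 (K295.FlatCrit.LS_unit (py O V)) W
    (sc (freeOnIso O V).hom W t)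
  refine ⟨S, hS, fun W' g hg => ?_⟩
  obtain ⟨p, hp⟩ := H g hg
  have h1 : rs _ g t = cmS O p := by
    have h2 : sc (freeOnIso O V).inv W' (rs _ g (sc (freeOnIso O V).hom W t)) = rs _ g t := by
      rw [sc_rs, ← sc_comp, Iso.hom_inv_id, sc_id]
    rw [← h2]
    exact congrArg (sc (freeOnIso O V).inv W') hp.symm
  rw [h1]
  exact cmS_mem O p

end FreeOn

section Pull

variable {C D : Type u} [SmallCategory C] [SmallCategory D] {J : GrothendieckTopology C}
  {K : GrothendieckTopology D} {O_C : Sheaf J CommRingCat.{u}} {O_D : Sheaf K CommRingCat.{u}}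
  (f : ModSite.RMor O_C O_D) (M : ModSite.Mod O_D)

/-- The combinations of restrictions of pullbacks of sections. -/
noncomputable def pspn (W : C) : Submodule (Rg O_C W) (ModSite.sect (f.pull.obj M) W) :=
  Submodule.span _ {t | ∃ (X : D) (h : W ⟶ f.fn.obj X) (m : ModSite.sect M X), t = rs _ h (pb f m)}

/-- The morphism on sections of a morphism of modules, as a linear map. -/
noncomputable def scL {F G : ModSite.Mod O_C} (φ : F ⟶ G) (W : C) :
    ModSite.sect F W →ₗ[Rg O_C W] ModSite.sect G W := (φ.val.app (op W)).hom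

theorem pspn_rs {W W' : C} (g : W' ⟶ W) (t : ModSite.sect (f.pull.obj M) W) (ht : t ∈ pspn f M W) :
    rs _ g t ∈ pspn f M W' := by
  induction ht using Submodule.span_induction with
  | mem x hx =>
    obtain ⟨X, h, m, rfl⟩ := hx
    exact Submodule.subset_span ⟨X, g ≫ h, m, rs_comp _ _ _ _⟩
  | zero => rw [map_zero]; exact zero_mem _
  | add x y _ _ hx hy => rw [map_add]; exact add_mem hx hy
  | smul a x _ hx =>
    rw [rs_smul]
    exact Submodule.smul_mem _ _ hx

/-- The sieve where a section is a combination of pullbacks of sections. -/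
noncomputable def gs {W : C} (t : ModSite.sect (f.pull.obj M) W) : Sieve W where
  arrows W' g := rs _ g t ∈ pspn f M W'
  downward_closed {W' W''} g h g' := by
    rw [← rs_comp]
    exact pspn_rs f M g' _ h

variable {f M}

theorem gs_pullback {W W' : C} (g : W' ⟶ W) (t : ModSite.sect (f.pull.obj M) W) :
    (gs f M t).pullback g = gs f M (rs _ g t) := by
  ext W'' h
  change rs _ (h ≫ g) t ∈ pspn f M W'' ↔ rs _ h (rs _ g t) ∈ pspn f M W''
  rw [rs_comp]

theorem gs_mem_of_local {W : C} (t : ModSite.sect (f.pull.obj M) W) (S : Sieve W) (hS : S ∈ J W)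
    (h : ∀ ⦃W' : C⦄ (g : W' ⟶ W), S g → gs f M (rs _ g t) ∈ J W') : gs f M t ∈ J W :=
  J.transitive hS _ fun W' g hg => by rw [gs_pullback]; exact h g hg

theorem gs_add {W : C} {t t' : ModSite.sect (f.pull.obj M) W} (h : gs f M t ∈ J W)
    (h' : gs f M t' ∈ J W) : gs f M (t + t') ∈ J W := by
  refine J.superset_covering ?_ (J.intersection_covering h h')
  intro W' g hg
  change rs _ g (t + t') ∈ pspn f M W'
  rw [map_add]
  exact add_mem hg.1 hg.2

theorem gs_neg {W : C} {t : ModSite.sect (f.pull.obj M) W} (h : gs f M t ∈ J W) :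
    gs f M (- t) ∈ J W := by
  refine J.superset_covering ?_ h
  intro W' g hg
  change rs _ g (- t) ∈ pspn f M W'
  rw [map_neg]
  exact neg_mem hg

theorem gs_zero {W : C} : gs f M (0 : ModSite.sect (f.pull.obj M) W) ∈ J W := by
  refine J.superset_covering ?_ (J.top_mem W)
  intro W' g _
  change rs _ g 0 ∈ pspn f M W'
  rw [map_zero]
  exact zero_mem _

theorem map_ofSec_mem {X : D} (m : ModSite.sect M X) {W : C}
    (t : ModSite.sect (f.pull.obj (ModSite.freeOn O_D X)) W) :
    gs f M (sc (f.pull.map (ofSec m)) W t) ∈ J W := by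
  obtain ⟨S, hS, H⟩ := exists_mem_spn O_C (sc (pullFreeOn f X).hom W t)
  refine J.superset_covering ?_ hS
  intro W' g hg
  change rs _ g (sc (f.pull.map (ofSec m)) W t) ∈ pspn f M W'
  have h1 : rs _ g (sc (f.pull.map (ofSec m)) W t) =
      sc ((pullFreeOn f X).inv ≫ f.pull.map (ofSec m)) W' (rs _ g (sc (pullFreeOn f X).hom W t)) := by
    rw [sc_rs, ← sc_comp, Iso.hom_inv_id_assoc]
  rw [h1]
  have h2 := H g hg
  generalize rs _ g (sc (pullFreeOn f X).hom W t) = y at h2
  have h3 : spn O_C (f.fn.obj X) W' ≤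
      (pspn f M W').comap (scL ((pullFreeOn f X).inv ≫ f.pull.map (ofSec m)) W') := by
    refine Submodule.span_le.2 ?_
    rintro _ ⟨h, rfl⟩
    refine Submodule.subset_span ⟨X, h, m, ?_⟩
    change sc ((pullFreeOn f X).inv ≫ f.pull.map (ofSec m)) W' (rs _ h (gen O_C (f.fn.obj X))) = _
    rw [sc_rs, sc_comp, pullFreeOn_inv_gen, map_pb, sc_ofSec]
  exact h3 h2

/-- A section of `f^* M` is locally a combination of restrictions of pullbacks of sections of `M`. -/
theorem gs_mem {W : C} (t : ModSite.sect (f.pull.obj M) W) : gs f M t ∈ J W := by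
  classical
  let I : Type u := Σ X : D, ModSite.sect M X
  let F : I → ModSite.Mod O_D := fun i => ModSite.freeOn O_D i.1
  let π : ∐ F ⟶ M := Limits.Sigma.desc fun i => ofSec i.2
  have hι : ∀ i : I, Limits.Sigma.ι F i ≫ π = ofSec i.2 := fun i => Limits.Sigma.ι_desc _ _
  have hπ : Epi π := by
    rw [K296.FreeOn.epi_iff]
    intro V m
    refine ⟨⊤, K.top_mem V, fun W g _ => ⟨rs _ g (sc (Limits.Sigma.ι F ⟨V, m⟩) V (gen O_D V)), ?_⟩⟩
    change sc π W (rs _ g (sc (Limits.Sigma.ι F ⟨V, m⟩) V (gen O_D V))) = rs _ g m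
    rw [sc_rs, ← sc_comp, hι, sc_ofSec]
  have hp : PreservesColimitsOfSize.{u, u} f.pull := f.adj.leftAdjoint_preservesColimits
  have hπ' : Epi (f.pull.map π) := by
    have : PreservesFiniteColimits f.pull := PreservesColimitsOfSize.preservesFiniteColimits.{u, u} _
    infer_instance
  obtain ⟨S, hS, H⟩ := (K296.FreeOn.epi_iff _).1 hπ' W t
  refine gs_mem_of_local t S hS fun W' g hg => ?_
  obtain ⟨y, hy⟩ := H g hg
  have hy' : sc (f.pull.map π) W' y = rs _ g t := hy
  rw [← hy']
  clear hy hy' hg g
  obtain ⟨S', hS', H'⟩ := K295.Coprod.exists_img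
    (isColimitOfPreserves f.pull (colimit.isColimit (Discrete.functor F))) y
  refine gs_mem_of_local _ S' hS' fun W'' g hg => ?_
  rw [← sc_rs]
  have h2 := H' g hg
  change rs _ g y ∈ _ at h2
  generalize rs _ g y = z at h2
  induction h2 using AddSubgroup.closure_induction with
  | mem x hx =>
    obtain ⟨⟨i⟩, b, rfl⟩ := hx
    have h3 : sc (f.pull.map π) W'' (sc (f.pull.map (Limits.Sigma.ι F i)) W'' b) =
        sc (f.pull.map (ofSec i.2)) W'' b := by
      rw [← sc_comp, ← f.pull.map_comp, hι]
    have h4 := map_ofSec_mem (f := f) i.2 b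
    rw [← h3] at h4
    exact h4
  | zero => rw [map_zero]; exact gs_zero
  | add x y _ _ hx hy => rw [map_add]; exact gs_add hx hy
  | neg x _ hx => rw [map_neg]; exact gs_neg hx

end Pull

end K293.PullSec
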