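import Groth.Agent.ModSite.K293.FreeSec
import Groth.Agent.ModSite.K293.StalkCmp
import Mathlib.LinearAlgebra.InvariantBasisNumber
import Mathlib.LinearAlgebra.Dimension.StrongRankCondition
import Mathlib.SetTheory.Cardinal.ENat

/-!
# Stalks of locally free modules on a ringed space

* `LBas F U b`: the sections `b i` over `U` (any index set) are locally a basis;
* `exists_lBas`: a trivialisation of `F` over `U` gives a local basis;
* `stalkBasis`: the germs of a local basis form a basis of the stalk.
-/

set_option autoImplicit false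

universe u

open CategoryTheory CategoryTheory.Limits Opposite TopologicalSpace

namespace K293.StalkBasis

open Groth.Agent.Gaga.H976.TM1 Groth.Agent.Gaga.H976.TM3 K292.Sp K292.Germ K292.FlatEq

variable {X : TopCat.{u}} {O : Sheaf (Opens.grothendieckTopology X) CommRingCat.{u}}

/-- The sections `b i` over `U` are locally a basis. -/
def LBas (F : ModSite.Mod O) (U : Opens X) {I : Type u} (b : I → F.val.obj (op U)) : Prop :=
  (∀ (V : Opens X) (hV : V ≤ U) (t : F.val.obj (op V)) (x : X), x ∈ V →
    ∃ (V' : Opens X) (h' : V' ≤ V), x ∈ V' ∧ ∃ (T : Finset I) (c : I → (ModSite.ringSh O).obj.obj (op V')),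
      rs F h' t = ∑ i ∈ T, c i • rs F (h'.trans hV) (b i)) ∧
  ∀ (V : Opens X) (hV : V ≤ U) (T : Finset I) (c : I → (ModSite.ringSh O).obj.obj (op V)),
    ∑ i ∈ T, c i • rs F hV (b i) = 0 → ∀ i ∈ T, c i = 0

theorem exists_lBas {F : ModSite.Mod O} {U : Opens X} {I : Type u}
    (e : (ModSite.restr O U).obj F ≅ SheafOfModules.free I) :
    ∃ b : I → F.val.obj (op U), LBas F U b := by
  classical
  let O' : Sheaf ((Opens.grothendieckTopology X).over U) CommRingCat.{u} := O.over U
  let f : SheafOfModules.free (R := ModSite.ringSh O') I ⟶ (ModSite.restr O U).obj F := e.inv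
  let σ : I → (F.over U).sections := (F.over U).freeHomEquiv f
  have hσ : ∀ (V : Opens X) (hV : V ≤ U) (i : I),
      f.val.app (op (Over.mk (homOfLE hV))) (FreeSec.bs O' I (Over.mk (homOfLE hV)) i) =
        rs F hV (ofSec F U (σ i)) := by
    intro V hV i
    exact sec_eq F U (σ i) (op (Over.mk (homOfLE hV)))
  have key : ∀ (V : Opens X) (hV : V ≤ U) (T : Finset I) (c : I → (ModSite.ringSh O).obj.obj (op V)),
      f.val.app (op (Over.mk (homOfLE hV)))
        (∑ i ∈ T, (show (ModSite.ringSh O').obj.obj (op (Over.mk (homOfLE hV))) from c i) •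
          FreeSec.bs O' I (Over.mk (homOfLE hV)) i) = ∑ i ∈ T, c i • rs F hV (ofSec F U (σ i)) := by
    intro V hV T c
    refine (app_sum f T _).trans (Finset.sum_congr rfl fun i _ => ?_)
    refine (app_smul f _ _).trans ?_
    exact congrArg (fun z => c i • z) (hσ V hV i)
  refine ⟨fun i => ofSec F U (σ i), fun V hV t x hx => ?_, fun V hV T c hc i hi => ?_⟩
  · let t' : (SheafOfModules.free (R := ModSite.ringSh O') I).val.obj
      (op (Over.mk (homOfLE hV))) := e.hom.val.app (op (Over.mk (homOfLE hV))) t
    have h1 : f.val.app (op (Over.mk (homOfLE hV))) t' = t := by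
      have h2 : (e.hom ≫ f).val.app (op (Over.mk (homOfLE hV))) t = t := by
        rw [e.hom_inv_id]; rfl
      exact h2
    obtain ⟨S, hS, h⟩ := FreeSec.exists_comb O' t'
    rw [mem_over] at hS
    obtain ⟨V', h', hxV', hg⟩ := hS x hx
    obtain ⟨T, c, hc⟩ := h _ hg
    refine ⟨V', h', hxV', T, c, ?_⟩
    have h3 := (app_res f (Over.homMk (homOfLE h') : Over.mk (homOfLE h' ≫ homOfLE hV) ⟶
      Over.mk (homOfLE hV)).op t').symm.trans (congrArg _ hc)
    refine Eq.trans ?_ (h3.trans (key V' (h'.trans hV) T c))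
    exact congrArg (fun z => rs F h' z) h1.symm
  · have h1 := (key V hV T c).trans hc
    have h2 : (∑ i ∈ T, (show (ModSite.ringSh O').obj.obj (op (Over.mk (homOfLE hV))) from c i) •
          FreeSec.bs O' I (Over.mk (homOfLE hV)) i) = 0 := by
      have h3 : ∀ z : (SheafOfModules.free (R := ModSite.ringSh O') I).val.obj
          (op (Over.mk (homOfLE hV))), e.hom.val.app (op (Over.mk (homOfLE hV)))
            (f.val.app (op (Over.mk (homOfLE hV))) z) = z := by
        intro z
        have h4 : (f ≫ e.hom).val.app (op (Over.mk (homOfLE hV))) z = z := by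
          rw [e.inv_hom_id]; rfl
        exact h4
      rw [← h3 (∑ i ∈ T, _)]
      refine (congrArg (fun z => e.hom.val.app (op (Over.mk (homOfLE hV))) z) h1).trans ?_
      exact map_zero (e.hom.val.app (op (Over.mk (homOfLE hV)))).hom
    have h5 := congrArg (fun z => (coord (ModSite.ringSh O') i).val.app (op (Over.mk (homOfLE hV))) z) h2
    have h6 : (coord (ModSite.ringSh O') i).val.app (op (Over.mk (homOfLE hV)))
        (∑ j ∈ T, (show (ModSite.ringSh O').obj.obj (op (Over.mk (homOfLE hV))) from c j) •
          FreeSec.bs O' I (Over.mk (homOfLE hV)) j) = c i := by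
      refine (app_sum (coord (ModSite.ringSh O') i) T _).trans ?_
      rw [Finset.sum_eq_single i]
      · refine (app_smul (coord (ModSite.ringSh O') i) _ _).trans ?_
        have h7 : (coord (ModSite.ringSh O') i).val.app (op (Over.mk (homOfLE hV)))
            (FreeSec.bs O' I (Over.mk (homOfLE hV)) i) =
              (1 : (ModSite.ringSh O').obj.obj (op (Over.mk (homOfLE hV)))) := by
          change (SheafOfModules.ιFree (R := ModSite.ringSh O') i ≫ coord (ModSite.ringSh O') i).val.app
            (op (Over.mk (homOfLE hV))) (1 : (ModSite.ringSh O').obj.obj (op (Over.mk (homOfLE hV)))) = _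
          rw [ιFree_coord, if_pos rfl]
          rfl
        refine (congrArg (fun z => (show (ModSite.ringSh O').obj.obj (op (Over.mk (homOfLE hV)))
          from c i) • z) h7).trans ?_
        exact mul_one (M := (ModSite.ringSh O').obj.obj (op (Over.mk (homOfLE hV)))) _
      · intro j _ hj
        refine (app_smul (coord (ModSite.ringSh O') i) _ _).trans ?_
        have h7 : (coord (ModSite.ringSh O') i).val.app (op (Over.mk (homOfLE hV)))
            (FreeSec.bs O' I (Over.mk (homOfLE hV)) j) = 0 := by
          change (SheafOfModules.ιFree (R := ModSite.ringSh O') j ≫ coord (ModSite.ringSh O') i).val.app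
            (op (Over.mk (homOfLE hV))) (1 : (ModSite.ringSh O').obj.obj (op (Over.mk (homOfLE hV)))) = _
          rw [ιFree_coord, if_neg hj]
          rfl
        refine (congrArg (fun z => (show (ModSite.ringSh O').obj.obj (op (Over.mk (homOfLE hV)))
          from c j) • z) h7).trans ?_
        exact smul_zero _
      · intro h
        exact absurd hi h
    refine h6.symm.trans (h5.trans ?_)
    exact map_zero ((coord (ModSite.ringSh O') i).val.app (op (Over.mk (homOfLE hV)))).hom


theorem LBas.linearIndependent {F : ModSite.Mod O} {U : Opens X} {I : Type u} {b : I → F.val.obj (op U)}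
    (h : LBas F U b) (x : X) (hx : x ∈ U) :
    LinearIndependent (ModSite.stalkRing (pt x) O) (fun i => ge F x hx (b i)) := by
  rw [linearIndependent_iff']
  intro T g hg i hi
  obtain ⟨V, hV, hxV, c, hc⟩ := exists_grs (O := O) x (fun j : T => g j) U hx
  have h1 : ge F x hxV (∑ j : T, c j • rs F hV (b j)) = ge F x hxV 0 := by
    rw [ge_sum, ge_zero, ← hg]
    refine Eq.trans (Finset.sum_congr rfl fun j _ => ?_)
      (Finset.sum_coe_sort T (fun j => g j • ge F x hx (b j)))
    rw [ge_smul, hc, ge_rs]
  obtain ⟨W, hW, hxW, h2⟩ := (ge_eq_iff F x hxV _ _).1 h1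
  classical
  let d : I → (ModSite.ringSh O).obj.obj (op W) := fun j => if hj : j ∈ T then rr hW (c ⟨j, hj⟩) else 0
  have h3 : ∑ j ∈ T, d j • rs F (hW.trans hV) (b j) = 0 := by
    refine (Finset.sum_coe_sort T (fun j => d j • rs F (hW.trans hV) (b j))).symm.trans ?_
    refine Eq.trans ?_ (h2.trans (map_zero (rs F hW)))
    rw [rs_sum]
    refine Finset.sum_congr rfl fun j _ => ?_
    rw [rs_smul, rs_rs]
    simp [d]
  have h4 := h.2 W (hW.trans hV) T d h3 i hi
  have h5 : d i = rr hW (c ⟨i, hi⟩) := by simp [d, hi]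
  have h6 : gr O x hxW (rr hW (c ⟨i, hi⟩)) = 0 := by rw [← h5, h4, gr_zero]
  rw [gr_rr, hc] at h6
  exact h6

theorem LBas.span {F : ModSite.Mod O} {U : Opens X} {I : Type u} {b : I → F.val.obj (op U)}
    (h : LBas F U b) (x : X) (hx : x ∈ U) :
    Submodule.span (ModSite.stalkRing (pt x) O) (Set.range fun i => ge F x hx (b i)) = ⊤ := by
  rw [eq_top_iff]
  intro a _
  obtain ⟨V, hV, hxV, t, ht⟩ := exists_ges F x (fun _ : Unit => a) U hx
  obtain ⟨W, hW, hxW, T, c, hc⟩ := h.1 V hV (t ()) x hxV
  have h1 : a = ∑ i ∈ T, gr O x hxW (c i) • ge F x hx (b i) := by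
    have h2 := congrArg (ge F x hxW) hc
    rw [ge_rs, ht ()] at h2
    rw [h2, ge_sum]
    refine Finset.sum_congr rfl fun i _ => ?_
    rw [ge_smul, ge_rs]
  rw [h1]
  exact Submodule.sum_mem _ fun i _ => Submodule.smul_mem _ _ (Submodule.subset_span ⟨i, rfl⟩)

/-- The germs of a local basis form a basis of the stalk. -/
noncomputable def stalkBasis {F : ModSite.Mod O} {U : Opens X} {I : Type u} {b : I → F.val.obj (op U)}
    (h : LBas F U b) (x : X) (hx : x ∈ U) :
    Module.Basis I (ModSite.stalkRing (pt x) O) (ModSite.stalkAb (pt x) F) :=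
  Module.Basis.mk (h.linearIndependent x hx) (h.span x hx).ge

theorem exists_stalkBasis {F : ModSite.Mod O} {U : Opens X} {I : Type u}
    (e : Nonempty ((ModSite.restr O U).obj F ≅ SheafOfModules.free I)) (x : X) (hx : x ∈ U) :
    Nonempty (Module.Basis I (ModSite.stalkRing (pt x) O) (ModSite.stalkAb (pt x) F)) := by
  obtain ⟨b, hb⟩ := exists_lBas e.some
  exact ⟨stalkBasis hb x hx⟩

theorem enatCard_eq {F : ModSite.Mod O} {U U' : Opens X} {I I' : Type u}
    (e : Nonempty ((ModSite.restr O U).obj F ≅ SheafOfModules.free I))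
    (e' : Nonempty ((ModSite.restr O U').obj F ≅ SheafOfModules.free I')) (x : X) (hx : x ∈ U)
    (hx' : x ∈ U') [Nontrivial (ModSite.stalkRing (pt x) O)] : ENat.card I = ENat.card I' := by
  obtain ⟨b⟩ := exists_stalkBasis e x hx
  obtain ⟨b'⟩ := exists_stalkBasis e' x hx'
  exact ENat.card_congr (b.indexEquiv b')

end K293.StalkBasis
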