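import Groth.Agent.ModSite.K293.LocProp
import Groth.Agent.ModSite.K293.PullSec
import Groth.Agent.ModSite.K293.StalkBasis

/-!
# Local generation of modules on a ringed space, elementwise; inverse images

* `LG F U b`: the sections `b i` over `U` (any index set) generate `F|_U`;
* `gn_iff`: `F|_U` is a quotient of `free I` iff there are such sections indexed by `I`;
* `LG.pull`: then their pullbacks generate `f^* F` over `f⁻¹ U`.
-/

set_option autoImplicit false

universe u

open CategoryTheory CategoryTheory.Limits Opposite TopologicalSpace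

namespace K293.LocGen

open Groth.Agent.Gaga.H976.TM0 Groth.Agent.Gaga.H976.TM1 Groth.Agent.Gaga.H976.TM2
open Groth.Agent.Gaga.H976.TM3 K292.Sp K292.Germ K292.FlatEq K293.TensFree

variable {X : TopCat.{u}} {O : Sheaf (Opens.grothendieckTopology X) CommRingCat.{u}}

/-- The span of the restrictions of the sections `b i`. -/
def bsp (F : ModSite.Mod O) {U : Opens X} {I : Type u} (b : I → F.val.obj (op U)) {V : Opens X}
    (hV : V ≤ U) : Submodule ((ModSite.ringSh O).obj.obj (op V)) (F.val.obj (op V)) :=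
  Submodule.span _ (Set.range fun i => rs F hV (b i))

/-- The sections `b i` over `U` generate `F|_U`. -/
def LG (F : ModSite.Mod O) (U : Opens X) {I : Type u} (b : I → F.val.obj (op U)) : Prop :=
  ∀ (V : Opens X) (hV : V ≤ U) (t : F.val.obj (op V)) (x : X), x ∈ V →
    ∃ (V' : Opens X) (h' : V' ≤ V), x ∈ V' ∧ rs F h' t ∈ bsp F b (h'.trans hV)

theorem bsp_rs {F : ModSite.Mod O} {U : Opens X} {I : Type u} {b : I → F.val.obj (op U)}
    {V V' : Opens X} (hV : V ≤ U) (h : V' ≤ V) (t : F.val.obj (op V)) (ht : t ∈ bsp F b hV) :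
    rs F h t ∈ bsp F b (h.trans hV) := by
  induction ht using Submodule.span_induction with
  | mem x hx =>
    obtain ⟨i, rfl⟩ := hx
    exact Submodule.subset_span ⟨i, (rs_rs F hV h (b i)).symm⟩
  | zero => rw [map_zero]; exact zero_mem _
  | add x y _ _ hx hy => rw [map_add]; exact add_mem hx hy
  | smul a x _ hx => rw [rs_smul]; exact Submodule.smul_mem _ _ hx

theorem gn_iff (F : ModSite.Mod O) (U : Opens X) (I : Type u) :
    Gn ((ModSite.restr O U).obj F) I ↔ ∃ b : I → F.val.obj (op U), LG F U b := by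
  let O' : Sheaf ((Opens.grothendieckTopology X).over U) CommRingCat.{u} := O.over U
  constructor
  · rintro ⟨f, hf⟩
    let σ : I → (F.over U).sections := (F.over U).freeHomEquiv f
    refine ⟨fun i => ofSec F U (σ i), fun V hV t x hx => ?_⟩
    obtain ⟨S, hS, H⟩ := (epi_iff f).1 hf (Over.mk (homOfLE hV)) t
    rw [mem_over] at hS
    obtain ⟨V₁, h₁, hx₁, hg₁⟩ := hS x hx
    obtain ⟨y, hy⟩ := H _ hg₁
    obtain ⟨S', hS', H'⟩ := FreeSec.exists_comb O' y
    rw [mem_over] at hS'
    obtain ⟨V₂, h₂, hx₂, hg₂⟩ := hS' x hx₁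
    obtain ⟨T, c, hc⟩ := H' _ hg₂
    have h2V : V₂ ≤ V := h₂.trans h₁
    refine ⟨V₂, h2V, hx₂, ?_⟩
    have e1 : rs F h2V t = f.val.app (op (Over.mk (homOfLE h₂ ≫ homOfLE h₁ ≫ homOfLE hV)))
        (∑ i ∈ T, c i • FreeSec.bs O' I (Over.mk (homOfLE h₂ ≫ homOfLE h₁ ≫ homOfLE hV)) i) := by
      have e2 : rs F h2V t = rs F h₂ (rs F h₁ t) := (rs_rs F h₁ h₂ t).symm
      have e3 : rs F h₁ t = f.val.app (op (Over.mk (homOfLE h₁ ≫ homOfLE hV))) y := hy.symm
      rw [e2, e3]
      exact (app_res f (Over.homMk (homOfLE h₂) :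
        Over.mk (homOfLE h₂ ≫ homOfLE h₁ ≫ homOfLE hV) ⟶ Over.mk (homOfLE h₁ ≫ homOfLE hV)).op
          y).symm.trans (congrArg _ hc)
    rw [e1]
    have e4 := app_sum f T (fun i => c i • FreeSec.bs O' I
      (Over.mk (homOfLE h₂ ≫ homOfLE h₁ ≫ homOfLE hV)) i)
    have e5 : ∀ i, f.val.app (op (Over.mk (homOfLE h₂ ≫ homOfLE h₁ ≫ homOfLE hV)))
        (c i • FreeSec.bs O' I (Over.mk (homOfLE h₂ ≫ homOfLE h₁ ≫ homOfLE hV)) i) =
          (show (ModSite.ringSh O).obj.obj (op V₂) from c i) • rs F (h2V.trans hV) (ofSec F U (σ i)) := by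
      intro i
      refine (app_smul f _ _).trans ?_
      exact congrArg (fun z : F.val.obj (op V₂) => (show (ModSite.ringSh O).obj.obj (op V₂) from c i) • z)
        (sec_eq F U (σ i) (op (Over.mk (homOfLE h₂ ≫ homOfLE h₁ ≫ homOfLE hV))))
    have e6 : f.val.app (op (Over.mk (homOfLE h₂ ≫ homOfLE h₁ ≫ homOfLE hV)))
        (∑ i ∈ T, c i • FreeSec.bs O' I (Over.mk (homOfLE h₂ ≫ homOfLE h₁ ≫ homOfLE hV)) i) =
        ∑ i ∈ T, (show (ModSite.ringSh O).obj.obj (op V₂) from c i) •
          rs F (h2V.trans hV) (ofSec F U (σ i)) := e4.trans (Finset.sum_congr rfl fun i _ => e5 i)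
    have e7 : (∑ i ∈ T, (show (ModSite.ringSh O).obj.obj (op V₂) from c i) •
          rs F (h2V.trans hV) (ofSec F U (σ i))) ∈
        bsp F (fun i => ofSec F U (σ i)) (h2V.trans hV) :=
      Submodule.sum_mem _ fun i _ => Submodule.smul_mem _ _ (Submodule.subset_span ⟨i, rfl⟩)
    rw [← e6] at e7
    exact e7
  · rintro ⟨b, hb⟩
    let σ : I → (F.over U).sections := fun i => toSec F U (b i)
    let f : SheafOfModules.free (R := (ModSite.ringSh O).over U) I ⟶ F.over U :=
      (F.over U).freeHomEquiv.symm σ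
    refine ⟨f, ?_⟩
    rw [epi_iff]
    intro Y t
    refine ⟨⟨fun W i => ∃ s, f.val.app (op W) s = (F.over U).val.restrictₛₗ i.op t, ?_⟩, ?_,
      fun W i hi => hi⟩
    · rintro V V' i ⟨s, hs⟩ j
      refine ⟨(SheafOfModules.free (R := (ModSite.ringSh O).over U) I).val.restrictₛₗ j.op s, ?_⟩
      rw [app_res, hs, op_comp]
      exact ((F.over U).val.map_comp_apply i.op j.op t).symm
    · rw [mem_over]
      intro x hx
      obtain ⟨V', h', hxV', ht⟩ := hb Y.left (leOfHom Y.hom) t x hx
      refine ⟨V', h', hxV', ?_⟩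
      let L : (SheafOfModules.free (R := (ModSite.ringSh O).over U) I).val.obj
          (op (Over.mk (homOfLE h' ≫ Y.hom))) →ₗ[((ModSite.ringSh O).over U).obj.obj
            (op (Over.mk (homOfLE h' ≫ Y.hom)))] (F.over U).val.obj (op (Over.mk (homOfLE h' ≫ Y.hom))) :=
        (f.val.app (op (Over.mk (homOfLE h' ≫ Y.hom)))).hom
      have h1 : bsp F b (h'.trans (leOfHom Y.hom)) ≤ (LinearMap.range L : Submodule _ _) := by
        refine Submodule.span_le.2 ?_
        rintro _ ⟨i, rfl⟩
        refine ⟨sec (SheafOfModules.freeSection (R := (ModSite.ringSh O).over U) i) _, ?_⟩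
        have h3 : (F.over U).freeHomEquiv f i = σ i :=
          congrFun (Equiv.apply_symm_apply (F.over U).freeHomEquiv σ) i
        have h4 : L (sec (SheafOfModules.freeSection (R := (ModSite.ringSh O).over U) i) _) =
            sec ((F.over U).freeHomEquiv f i) (op (Over.mk (homOfLE h' ≫ Y.hom))) := rfl
        rw [h4, h3]
        rfl
      exact h1 ht

section Pull

variable {Y : TopCat.{u}} (g : X ⟶ Y)
    {O_Y : Sheaf (Opens.grothendieckTopology Y) CommRingCat.{u}}
    (c : O_Y ⟶ ((Opens.map g).sheafPushforwardContinuous CommRingCat.{u}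
      (Opens.grothendieckTopology Y) (Opens.grothendieckTopology X)).obj O)
    (G : ModSite.Mod O_Y)

/-- The inverse image functor. -/
noncomputable abbrev rm : ModSite.RMor O O_Y := ModSite.RMor.ofFlat (Opens.map g) c

theorem LG.pull {U : Opens Y} {I : Type u} {b : I → G.val.obj (op U)} (hb : LG G U b) :
    LG ((rm g c).pull.obj G) ((Opens.map g).obj U)
      (fun i => K291.PullFree.pb (rm g c) (b i)) := by
  intro V hV t x hx
  obtain ⟨V₁, i₁, hi₁, hx₁⟩ := PullSec.gs_mem (f := rm g c) t x hx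
  have h₁ : V₁ ≤ V := leOfHom i₁
  have hmem : rs ((rm g c).pull.obj G) h₁ t ∈ PullSec.pspn (rm g c) G V₁ := hi₁
  have key : ∀ z ∈ PullSec.pspn (rm g c) G V₁, ∃ (V' : Opens X) (h' : V' ≤ V₁), x ∈ V' ∧
      rs ((rm g c).pull.obj G) h' z ∈ bsp ((rm g c).pull.obj G)
        (fun i => K291.PullFree.pb (rm g c) (b i)) (h'.trans (h₁.trans hV)) := by
    intro z hz
    induction hz using Submodule.span_induction with
    | mem z hz =>
      obtain ⟨N, h, m, rfl⟩ := hz
      have hxN : g x ∈ N := leOfHom h hx₁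
      have hxU : g x ∈ U := hV hx
      obtain ⟨N', hN', hxN', hm⟩ := hb (N ⊓ U) inf_le_right (rs G inf_le_left m) (g x) ⟨hxN, hxU⟩
      rw [rs_rs] at hm
      have hN'N : N' ≤ N := hN'.trans inf_le_left
      refine ⟨V₁ ⊓ (Opens.map g).obj N', inf_le_left, ⟨hx₁, hxN'⟩, ?_⟩
      have e1 : rs ((rm g c).pull.obj G) (inf_le_left : V₁ ⊓ (Opens.map g).obj N' ≤ V₁)
          (K291.FreeOn.rs ((rm g c).pull.obj G) h (K291.PullFree.pb (rm g c) m)) =
          rs ((rm g c).pull.obj G) (inf_le_right : V₁ ⊓ (Opens.map g).obj N' ≤ (Opens.map g).obj N')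
            (K291.PullFree.pb (rm g c) (rs G hN'N m)) := by
        have e2 := K291.PullFree.pb_rs (rm g c) (homOfLE hN'N) m
        have e3 : K291.PullFree.pb (rm g c) (rs G hN'N m) =
          K291.FreeOn.rs ((rm g c).pull.obj G) ((rm g c).fn.map (homOfLE hN'N))
            (K291.PullFree.pb (rm g c) m) := e2
        rw [e3]
        exact (K291.FreeOn.rs_comp _ _ (homOfLE inf_le_left) _).trans
          (K291.FreeOn.rs_comp _ _ (homOfLE inf_le_right) _).symm
      rw [e1]
      let B : Submodule ((ModSite.ringSh O).obj.obj (op (V₁ ⊓ (Opens.map g).obj N')))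
          (((rm g c).pull.obj G).val.obj (op (V₁ ⊓ (Opens.map g).obj N'))) :=
        bsp ((rm g c).pull.obj G) (fun i => K291.PullFree.pb (rm g c) (b i))
          ((inf_le_left : V₁ ⊓ (Opens.map g).obj N' ≤ V₁).trans (h₁.trans hV))
      have e4 : ∀ w ∈ bsp G b (hN'.trans inf_le_right),
          rs ((rm g c).pull.obj G) (inf_le_right : V₁ ⊓ (Opens.map g).obj N' ≤ (Opens.map g).obj N')
            (K291.PullFree.pb (rm g c) w) ∈ B := by
        intro w hw
        induction hw using Submodule.span_induction with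
        | mem w hw =>
          obtain ⟨i, rfl⟩ := hw
          refine Submodule.subset_span ⟨i, ?_⟩
          have e5 : K291.PullFree.pb (rm g c) (rs G (hN'.trans inf_le_right) (b i)) =
            K291.FreeOn.rs ((rm g c).pull.obj G) ((rm g c).fn.map (homOfLE (hN'.trans inf_le_right)))
              (K291.PullFree.pb (rm g c) (b i)) :=
            K291.PullFree.pb_rs (rm g c) (homOfLE (hN'.trans inf_le_right)) (b i)
          rw [e5]
          exact (K291.FreeOn.rs_comp _ _ (homOfLE inf_le_right) _).symm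
        | zero =>
          have e6 : K291.PullFree.pb (rm g c) (0 : G.val.obj (op N')) = 0 :=
            K291.PullFree.pb_zero _
          have e7 : rs ((rm g c).pull.obj G)
              (inf_le_right : V₁ ⊓ (Opens.map g).obj N' ≤ (Opens.map g).obj N') 0 = 0 := map_zero _
          exact Set.mem_of_eq_of_mem ((congrArg _ e6).trans e7) (zero_mem B)
        | add x y _ _ hx hy =>
          have e6 := K291.PullFree.pb_add (rm g c) x y
          have e7 := map_add (rs ((rm g c).pull.obj G)
              (inf_le_right : V₁ ⊓ (Opens.map g).obj N' ≤ (Opens.map g).obj N'))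
                (K291.PullFree.pb (rm g c) x) (K291.PullFree.pb (rm g c) y)
          exact Set.mem_of_eq_of_mem ((congrArg _ e6).trans e7) (B.add_mem hx hy)
        | smul a x _ hx =>
          have e6 := K291.PullFree.pb_smul (rm g c) a x
          have e7 := rs_smul ((rm g c).pull.obj G)
              (inf_le_right : V₁ ⊓ (Opens.map g).obj N' ≤ (Opens.map g).obj N')
                (K291.PullFree.shp (rm g c) N' a) (K291.PullFree.pb (rm g c) x)
          exact Set.mem_of_eq_of_mem ((congrArg _ e6).trans e7) (B.smul_mem _ hx)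
      exact e4 _ hm
    | zero => exact ⟨V₁, le_rfl, hx₁, by rw [map_zero]; exact zero_mem _⟩
    | add z z' _ _ hz hz' =>
      obtain ⟨W, hW, hxW, h⟩ := hz
      obtain ⟨W', hW', hxW', h'⟩ := hz'
      refine ⟨W ⊓ W', inf_le_left.trans hW, ⟨hxW, hxW'⟩, ?_⟩
      rw [map_add]
      refine add_mem ?_ ?_
      · have := bsp_rs (hW.trans (h₁.trans hV)) (inf_le_left : W ⊓ W' ≤ W) _ h
        rwa [rs_rs] at this
      · have := bsp_rs (hW'.trans (h₁.trans hV)) (inf_le_right : W ⊓ W' ≤ W') _ h'
        rwa [rs_rs] at this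
    | smul a z _ hz =>
      obtain ⟨W, hW, hxW, h⟩ := hz
      refine ⟨W, hW, hxW, ?_⟩
      rw [rs_smul]
      exact Submodule.smul_mem _ _ h
  obtain ⟨V', h', hx', hm'⟩ := key _ hmem
  rw [rs_rs] at hm'
  exact ⟨V', h'.trans h₁, hx', hm'⟩

theorem s6852 (hG : Nonempty (SheafOfModules.LocalGeneratorsData.{u} (R := ModSite.ringSh O_Y) G)) :
    Nonempty (SheafOfModules.LocalGeneratorsData.{u} (R := ModSite.ringSh O)
      ((rm g c).pull.obj G)) := by
  rw [LocProp.localGeneratorsData_iff] at hG ⊢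
  intro x
  obtain ⟨U, I, hx, h⟩ := hG (g x)
  rw [gn_iff] at h
  obtain ⟨b, hb⟩ := h
  exact ⟨(Opens.map g).obj U, I, hx, (gn_iff _ _ _).2 ⟨_, LG.pull g c G hb⟩⟩

end Pull

end K293.LocGen
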