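import Groth.Agent.ModSite.K293.LocLift
import Groth.Agent.ModSite.K296.FreeOn

/-!
# Local maps between modules on a ringed site

`LH W M N` is the group of maps `M|_W ⟶ N|_W`; `lres g : LH W M N → LH W' M N` is the restriction along
`g : W' ⟶ W`.  Main results: `exists_local_lift_exact` (maps from a summand of a finite free module lift
locally through exact sequences).
-/

set_option autoImplicit false

open CategoryTheory CategoryTheory.Limits Opposite

universe u

namespace K293.LocHom

open Restr TermSec

open K296.FreeOn (ap rs)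

variable {C : Type u} [SmallCategory C] {J : GrothendieckTopology C} {O : Sheaf J CommRingCat.{u}}

/-- Maps over `C/W` between the restrictions of two modules. -/
abbrev LH (W : C) (M N : ModSite.Mod O) := (ModSite.restr O W).obj M ⟶ (ModSite.restr O W).obj N

/-- Restriction of maps of modules along `g : W' ⟶ W`. -/
noncomputable def lres {M N : ModSite.Mod O} {W' W : C} (g : W' ⟶ W) (φ : LH W M N) : LH W' M N :=
  ⟨{ app := fun Y => φ.val.app (op ((Over.map g).obj Y.unop))
     naturality := fun f => φ.val.naturality ((Over.map g).map f.unop).op }⟩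

section Basic

variable {M N P : ModSite.Mod O} {W' W : C} (g : W' ⟶ W)

theorem lres_comp (φ : LH W M N) (ψ : LH W N P) : lres g (φ ≫ ψ) = lres g φ ≫ lres g ψ := rfl

theorem lres_add (φ ψ : LH W M N) : lres g (φ + ψ) = lres g φ + lres g ψ := rfl

theorem lres_neg (φ : LH W M N) : lres g (-φ) = -lres g φ := rfl

theorem lres_sub (φ ψ : LH W M N) : lres g (φ - ψ) = lres g φ - lres g ψ := rfl

theorem lres_zero : lres g (0 : LH W M N) = 0 := rfl

theorem lres_id : lres g (𝟙 ((ModSite.restr O W).obj M) : LH W M M) = 𝟙 _ := rfl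

theorem lres_map (f : M ⟶ N) : lres g ((ModSite.restr O W).map f) = (ModSite.restr O W').map f := rfl

end Basic

section Free

variable {I : Type u} {M N : ModSite.Mod O} {W : C}

/-- The sections given by a local map out of a free module. -/
noncomputable def lsec (ψ : LH W (SheafOfModules.free (R := ModSite.ringSh O) I) M) (i : I) :
    ModSite.sect M W :=
  freeEquiv ((ModSite.restr O W).obj M) Over.mkIdTerminal ((restrFreeIso O W I).hom ≫ ψ) i

theorem lsec_eq (ψ : LH W (SheafOfModules.free (R := ModSite.ringSh O) I) M) (i : I) :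
    lsec ψ i = ψ.val.app (op (Over.mk (𝟙 W)))
      ((SheafOfModules.ιFree (R := ModSite.ringSh O) i).val.app (op W) (1 : O.obj.obj (op W))) := by
  have h1 : SheafOfModules.ιFree i ≫ (restrFreeIso O W I).hom ≫ ψ =
      (ModSite.restr O W).map (SheafOfModules.ιFree i) ≫ ψ :=
    (Category.assoc _ _ _).symm.trans
      (congrArg (fun z => z ≫ ψ) (ιFree_restrFreeIso_hom O W I i))
  exact congrArg (fun z => homEquiv ((ModSite.restr O W).obj M) Over.mkIdTerminal z) h1

theorem lsec_injective {ψ ψ' : LH W (SheafOfModules.free (R := ModSite.ringSh O) I) M}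
    (h : ∀ i, lsec ψ i = lsec ψ' i) : ψ = ψ' := by
  have h1 : (restrFreeIso O W I).hom ≫ ψ = (restrFreeIso O W I).hom ≫ ψ' :=
    (freeEquiv ((ModSite.restr O W).obj M) Over.mkIdTerminal).injective (funext h)
  exact (cancel_epi _).1 h1

/-- The local map out of a free module given by sections. -/
noncomputable def lmk (s : I → ModSite.sect M W) :
    LH W (SheafOfModules.free (R := ModSite.ringSh O) I) M :=
  (restrFreeIso O W I).inv ≫ (freeEquiv ((ModSite.restr O W).obj M) Over.mkIdTerminal).symm s

theorem lsec_lmk (s : I → ModSite.sect M W) (i : I) : lsec (lmk (O := O) s) i = s i := by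
  have h1 : (restrFreeIso O W I).hom ≫ lmk (O := O) s =
    (freeEquiv ((ModSite.restr O W).obj M) Over.mkIdTerminal).symm s := Iso.hom_inv_id_assoc _ _
  have h2 := congrArg (fun z => freeEquiv ((ModSite.restr O W).obj M) Over.mkIdTerminal z i) h1
  exact h2.trans
    (congrFun (Equiv.apply_symm_apply (freeEquiv ((ModSite.restr O W).obj M) Over.mkIdTerminal) s) i)

theorem lsec_comp (ψ : LH W (SheafOfModules.free (R := ModSite.ringSh O) I) M) (f : M ⟶ N) (i : I) :
    lsec (ψ ≫ (ModSite.restr O W).map f) i = ap f W (lsec ψ i) := by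
  rw [lsec_eq, lsec_eq]
  rfl

theorem lsec_lres {W' : C} (g : W' ⟶ W) (ψ : LH W (SheafOfModules.free (R := ModSite.ringSh O) I) M)
    (i : I) : lsec (lres g ψ) i = rs M g (lsec ψ i) := by
  rw [lsec_eq, lsec_eq]
  let k : Over.mk (𝟙 W' ≫ g) ⟶ Over.mk (𝟙 W) := Over.homMk g
  have h := PresheafOfModules.naturality_apply ψ.val k.op
    ((SheafOfModules.ιFree (R := ModSite.ringSh O) i).val.app (op W) (1 : O.obj.obj (op W)))
  have h2 := PresheafOfModules.naturality_apply (SheafOfModules.ιFree (R := ModSite.ringSh O) i).val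
    g.op (1 : (ModSite.ringSh O).obj.obj (op W))
  have h3 : (SheafOfModules.unit (ModSite.ringSh O)).val.map g.op
      (1 : (ModSite.ringSh O).obj.obj (op W)) = (1 : (ModSite.ringSh O).obj.obj (op W')) :=
    map_one ((ModSite.ringSh O).obj.map g.op).hom
  refine Eq.trans ?_ h
  change ψ.val.app (op (Over.mk (𝟙 W' ≫ g))) _ = ψ.val.app (op (Over.mk (𝟙 W' ≫ g))) _
  congr 1
  exact (congrArg _ h3).symm.trans h2

end Free

/-- Maps from a finite free module lift locally through exact sequences. -/
theorem exists_local_lift_exact_free (S : ShortComplex (ModSite.Mod O)) (hS : S.Exact) {I : Type u}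
    [Finite I] {W : C} (ψ : LH W (SheafOfModules.free (R := ModSite.ringSh O) I) S.X₂)
    (h : ψ ≫ (ModSite.restr O W).map S.g = 0) :
    ∃ R ∈ J W, ∀ ⦃W' : C⦄ (g : W' ⟶ W), R g →
      ∃ l : LH W' (SheafOfModules.free (R := ModSite.ringSh O) I) S.X₁,
        l ≫ (ModSite.restr O W').map S.f = lres g ψ := by
  classical
  have := Fintype.ofFinite I
  have h0 : ∀ i, ap S.g W (lsec ψ i) = 0 := by
    intro i
    rw [← lsec_comp, h, lsec_eq]
    rfl
  choose T hT hT' using fun i => (K296.FreeOn.exact_iff S).1 hS W (lsec ψ i) (h0 i)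
  refine ⟨Finset.univ.inf T, ?_, ?_⟩
  · have : ∀ A : Finset I, A.inf T ∈ J W := by
      intro A
      induction A using Finset.induction_on with
      | empty => simp
      | insert a A _ ih =>
        rw [Finset.inf_insert]
        exact J.intersection_covering (hT a) ih
    exact this _
  · intro W' g hg
    have h1 : ∀ i, T i g := fun i => by
      have : Finset.univ.inf T ≤ T i := Finset.inf_le (Finset.mem_univ i)
      exact this _ hg
    choose s hs using fun i => hT' i g (h1 i)
    refine ⟨lmk s, ?_⟩
    apply lsec_injective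
    intro i
    rw [lsec_comp, lsec_lmk, hs, lsec_lres]

/-- Maps from a direct summand of a finite free module lift locally through exact sequences. -/
theorem exists_local_lift_exact (S : ShortComplex (ModSite.Mod O)) (hS : S.Exact) {E : ModSite.Mod O}
    (hE : DCoh.IsFinFreeSummandMod (ModSite.ringSh O) E) {W : C} (ψ : LH W E S.X₂)
    (h : ψ ≫ (ModSite.restr O W).map S.g = 0) :
    ∃ R ∈ J W, ∀ ⦃W' : C⦄ (g : W' ⟶ W), R g →
      ∃ l : LH W' E S.X₁, l ≫ (ModSite.restr O W').map S.f = lres g ψ := by
  obtain ⟨n, i, p, hip⟩ := hE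
  obtain ⟨R, hR, hR'⟩ := exists_local_lift_exact_free S hS ((ModSite.restr O W).map p ≫ ψ)
    (by rw [Category.assoc, h, comp_zero])
  refine ⟨R, hR, fun W' g hg => ?_⟩
  obtain ⟨l, hl⟩ := hR' g hg
  refine ⟨(ModSite.restr O W').map i ≫ l, ?_⟩
  rw [Category.assoc, hl, lres_comp, lres_map, ← Category.assoc, ← Functor.map_comp, hip,
    CategoryTheory.Functor.map_id, Category.id_comp]

end K293.LocHom
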