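import Groth.Agent.ModSite.K293.Restr
import Groth.Prelude.Def_AlgSpPerf

/-!
# Local liftings through epimorphisms of modules on a ringed site
-/

set_option autoImplicit false

open CategoryTheory CategoryTheory.Limits Opposite

universe u

namespace K293.LocLift

open Restr TermSec

variable {C : Type u} [SmallCategory C] {J : GrothendieckTopology C} {O : Sheaf J CommRingCat.{u}}

/-- The sections over `W` given by a map from a free module. -/
noncomputable def fsec {I : Type u} {F : ModSite.Mod O}
    (ψ : SheafOfModules.free (R := ModSite.ringSh O) I ⟶ F) (W : C) (i : I) : ModSite.sect F W :=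
  (SheafOfModules.ιFree i ≫ ψ).val.app (op W) (1 : (ModSite.ringSh O).obj.obj (op W))

theorem map_fsec {I : Type u} {F : ModSite.Mod O}
    (ψ : SheafOfModules.free (R := ModSite.ringSh O) I ⟶ F) {V W : C} (g : W ⟶ V) (i : I) :
    F.val.map g.op (fsec ψ V i) = fsec ψ W i := by
  have h3 := PresheafOfModules.naturality_apply (SheafOfModules.ιFree i ≫ ψ).val g.op
    (1 : (ModSite.ringSh O).obj.obj (op V))
  refine h3.symm.trans ?_
  change (SheafOfModules.ιFree i ≫ ψ).val.app (op W)
    ((ModSite.ringSh O).obj.map g.op (1 : (ModSite.ringSh O).obj.obj (op V))) = _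
  rw [map_one]
  rfl

theorem freeEquiv_restr {I : Type u} {F : ModSite.Mod O}
    (ψ : SheafOfModules.free (R := ModSite.ringSh O) I ⟶ F) (W : C) (i : I) :
    freeEquiv ((ModSite.restr O W).obj F) Over.mkIdTerminal
      ((restrFreeIso O W I).hom ≫ (ModSite.restr O W).map ψ) i = fsec ψ W i := by
  rw [freeEquiv_apply]
  have h1 : SheafOfModules.ιFree i ≫ (restrFreeIso O W I).hom ≫ (ModSite.restr O W).map ψ =
      (ModSite.restr O W).map (SheafOfModules.ιFree i ≫ ψ) :=
    (Category.assoc _ _ _).symm.trans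
      ((congrArg (fun z => z ≫ (ModSite.restr O W).map ψ) (ιFree_restrFreeIso_hom O W I i)).trans
        ((ModSite.restr O W).map_comp _ _).symm)
  exact congrArg (fun z => homEquiv ((ModSite.restr O W).obj F) Over.mkIdTerminal z) h1

/-- A map from a finite free module lifts locally through an epimorphism. -/
theorem exists_local_lift_free {I : Type u} [Finite I] {F G : ModSite.Mod O} (p : G ⟶ F) [Epi p]
    (ψ : SheafOfModules.free (R := ModSite.ringSh O) I ⟶ F) (V : C) :
    ∃ R ∈ J V, ∀ ⦃W : C⦄ (g : W ⟶ V), R g →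
      ∃ l : (ModSite.restr O W).obj (SheafOfModules.free I) ⟶ (ModSite.restr O W).obj G,
        l ≫ (ModSite.restr O W).map p = (ModSite.restr O W).map ψ := by
  obtain ⟨R, hR, h⟩ := exists_lift_of_epi p V (fsec ψ V)
  refine ⟨R, hR, fun W g hg => ?_⟩
  obtain ⟨s, hs⟩ := h g hg
  let l' : SheafOfModules.free (R := ModSite.ringSh (O.over W)) I ⟶ (ModSite.restr O W).obj G :=
    (freeEquiv ((ModSite.restr O W).obj G) Over.mkIdTerminal).symm s
  refine ⟨(restrFreeIso O W I).inv ≫ l', ?_⟩
  rw [Category.assoc, Iso.inv_comp_eq]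
  apply over_free_hom_ext
  intro i
  rw [freeEquiv_restr, freeEquiv_comp]
  have h0 : freeEquiv ((ModSite.restr O W).obj G) Over.mkIdTerminal l' i = s i :=
    congrFun (Equiv.apply_symm_apply (freeEquiv ((ModSite.restr O W).obj G) Over.mkIdTerminal) s) i
  exact (congrArg _ h0).trans ((hs i).trans (map_fsec ψ g i))

/-- A map from a direct summand of a finite free module lifts locally through an epimorphism. -/
theorem exists_local_lift_summand {E F G : ModSite.Mod O}
    (hE : DCoh.IsFinFreeSummandMod (ModSite.ringSh O) E) (p : G ⟶ F) [Epi p] (φ : E ⟶ F) (V : C) :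
    ∃ R ∈ J V, ∀ ⦃W : C⦄ (g : W ⟶ V), R g →
      ∃ l : (ModSite.restr O W).obj E ⟶ (ModSite.restr O W).obj G,
        l ≫ (ModSite.restr O W).map p = (ModSite.restr O W).map φ := by
  obtain ⟨n, i, q, hiq⟩ := hE
  obtain ⟨R, hR, h⟩ := exists_local_lift_free p (q ≫ φ) V
  refine ⟨R, hR, fun W g hg => ?_⟩
  obtain ⟨l, hl⟩ := h g hg
  refine ⟨(ModSite.restr O W).map i ≫ l, ?_⟩
  rw [Category.assoc, hl, ← Functor.map_comp, ← Category.assoc, hiq, Category.id_comp]

end K293.LocLift
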