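import Groth.Agent.ModSite.K293.LocHom
import Groth.Agent.Dcoh.LocLiftCx
import Mathlib.Algebra.Homology.HomotopyCategory.Pretriangulated

/-!
# Maps from strictly perfect complexes to complexes acyclic in a range are locally null-homotopic
-/

set_option autoImplicit false

open CategoryTheory CategoryTheory.Limits Opposite CochainComplex.HomComplex Pretriangulated

universe u

namespace K293.LocNull

open Restr TermSec LocHom

variable {C : Type u} [SmallCategory C] {J : GrothendieckTopology C} {O : Sheaf J CommRingCat.{u}}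

/-- The restriction of complexes. -/
noncomputable abbrev resCx (O : Sheaf J CommRingCat.{u}) (W : C) :
    CochainComplex (ModSite.Mod O) ℤ ⥤ CochainComplex (ModSite.Mod (O.over W)) ℤ :=
  (ModSite.restr O W).mapHomologicalComplex (ComplexShape.up ℤ)

variable {E K : CochainComplex (ModSite.Mod O) ℤ} (φ : E ⟶ K)

/-- A contraction of `φ` over `W` in degrees `≥ n`. -/
def PH (W : C) (n : ℤ) : Prop :=
  ∃ h : ∀ i j : ℤ, LH W (E.X i) (K.X j), ∀ i j k : ℤ, i + 1 = j → j + 1 = k → n ≤ j →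
    (ModSite.restr O W).map (φ.f j) = h j i ≫ (ModSite.restr O W).map (K.d i j) +
      (ModSite.restr O W).map (E.d j k) ≫ h k j

variable {φ}

theorem PH.res {W W' : C} {n : ℤ} (h : PH φ W n) (g : W' ⟶ W) : PH φ W' n := by
  obtain ⟨h, hh⟩ := h
  refine ⟨fun i j => lres g (h i j), fun i j k hij hjk hn => ?_⟩
  have := congrArg (lres g) (hh i j k hij hjk hn)
  exact this

theorem restr_hom_ext {M N : ModSite.Mod O} (hM : IsZero M) {W : C} (a b : LH W M N) : a = b :=
  ((ModSite.restr O W).map_isZero hM).eq_of_src a b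

theorem PH.base (W : C) (n : ℤ) (hE : ∀ j, n ≤ j → IsZero (E.X j)) : PH φ W n :=
  ⟨fun _ _ => 0, fun _ j _ _ _ hj => restr_hom_ext (hE j hj) _ _⟩

theorem PH.of_isZero {W : C} {n : ℤ} (h : PH φ W (n + 1)) (hE : IsZero (E.X n)) : PH φ W n := by
  obtain ⟨h, hh⟩ := h
  refine ⟨h, fun i j k hij hjk hn => ?_⟩
  rcases hn.eq_or_lt with rfl | hn
  · exact restr_hom_ext hE _ _
  · exact hh i j k hij hjk (by lia)

theorem PH.step {W : C} {n : ℤ} (h : PH φ W (n + 1))
    (hE : DCoh.IsFinFreeSummandMod (ModSite.ringSh O) (E.X n)) (hK : K.ExactAt n) :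
    ∃ R ∈ J W, ∀ ⦃W' : C⦄ (g : W' ⟶ W), R g → PH φ W' n := by
  obtain ⟨h, hh⟩ := h
  let ψ : LH W (E.X n) (K.X n) :=
    (ModSite.restr O W).map (φ.f n) - (ModSite.restr O W).map (E.d n (n + 1)) ≫ h (n + 1) n
  have hψ : ψ ≫ (ModSite.restr O W).map (K.d n (n + 1)) = 0 := by
    have h1 := hh n (n + 1) (n + 1 + 1) rfl rfl le_rfl
    have h2 : (ModSite.restr O W).map (φ.f n) ≫ (ModSite.restr O W).map (K.d n (n + 1)) =
        (ModSite.restr O W).map (E.d n (n + 1)) ≫ (ModSite.restr O W).map (φ.f (n + 1)) := by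
      rw [← Functor.map_comp, ← Functor.map_comp, φ.comm]
    rw [Preadditive.sub_comp, h2, h1, Preadditive.comp_add, ← Category.assoc
      ((ModSite.restr O W).map (E.d n (n + 1))) ((ModSite.restr O W).map (E.d (n + 1) (n + 1 + 1))),
      ← Functor.map_comp, E.d_comp_d, Functor.map_zero, zero_comp, add_zero, Category.assoc, sub_self]
  have hS : (K.sc' (n - 1) n (n + 1)).Exact :=
    (K.exactAt_iff' (n - 1) n (n + 1) (by simp) (by simp)).1 hK
  obtain ⟨R, hR, hR'⟩ := exists_local_lift_exact (K.sc' (n - 1) n (n + 1)) hS hE ψ hψ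
  refine ⟨R, hR, fun W' g hg => ?_⟩
  obtain ⟨l, hl'⟩ : ∃ l : LH W' (E.X n) (K.X (n - 1)),
      l ≫ (ModSite.restr O W').map (K.d (n - 1) n) =
      (ModSite.restr O W').map (φ.f n) -
        (ModSite.restr O W').map (E.d n (n + 1)) ≫ lres g (h (n + 1) n) := hR' g hg
  classical
  let h' : ∀ i j : ℤ, LH W' (E.X i) (K.X j) := fun i j =>
    if hij : i = n ∧ j = n - 1 then
      (ModSite.restr O W').map (eqToHom (by rw [hij.1])) ≫ l ≫
        (ModSite.restr O W').map (eqToHom (by rw [hij.2])) else lres g (h i j)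
  have e1 : h' n (n - 1) = l := by
    dsimp only [h']
    rw [dif_pos ⟨rfl, rfl⟩]
    simp
  have e2 : ∀ i j : ℤ, i ≠ n → h' i j = lres g (h i j) := by
    intro i j hi
    dsimp only [h']
    rw [dif_neg (fun hij => hi hij.1)]
  refine ⟨h', fun i j k hij hjk hn => ?_⟩
  rcases hn.eq_or_lt with rfl | hn
  · obtain rfl : i = n - 1 := by lia
    obtain rfl : k = n + 1 := by lia
    rw [e1, e2 _ _ (by lia), hl']
    abel
  · rw [e2 _ _ (by lia), e2 _ _ (by lia)]
    exact congrArg (lres g) (hh i j k hij hjk (by lia))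

theorem PH.locally_step {V : C} {n : ℤ}
    (h : ∃ R ∈ J V, ∀ ⦃W : C⦄ (g : W ⟶ V), R g → PH φ W (n + 1))
    (hE : DCoh.IsFinFreeSummandMod (ModSite.ringSh O) (E.X n))
    (hK : IsZero (E.X n) ∨ K.ExactAt n) :
    ∃ R ∈ J V, ∀ ⦃W : C⦄ (g : W ⟶ V), R g → PH φ W n := by
  obtain ⟨R, hR, h⟩ := h
  rcases hK with hK | hK
  · exact ⟨R, hR, fun W g hg => (h g hg).of_isZero hK⟩
  · choose T hT hT' using fun (W : C) (g : W ⟶ V) (hg : R g) => (h g hg).step hE hK
    refine ⟨Sieve.bind R T, J.bind_covering hR hT, fun W g hg => ?_⟩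
    obtain ⟨Y, a, b, hb, ha, rfl⟩ := hg
    exact hT' Y b hb a ha

/-- Locally there is a full contraction. -/
theorem exists_PH (hE : DCoh.IsStrictlyPerfectMod (ModSite.ringSh O) E)
    (a : ℤ) (hEa : ∀ j : ℤ, j < a → IsZero (E.X j)) (hK : ∀ j, a ≤ j → K.ExactAt j) (V : C) (n : ℤ) :
    ∃ R ∈ J V, ∀ ⦃W : C⦄ (g : W ⟶ V), R g → PH φ W n := by
  obtain ⟨⟨a', b, hab⟩, hE'⟩ := hE
  have key : ∀ (k : ℕ) (m : ℤ), b + 1 ≤ m + k →
      ∃ R ∈ J V, ∀ ⦃W : C⦄ (g : W ⟶ V), R g → PH φ W m := by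
    intro k
    induction k with
    | zero =>
      intro m hm
      exact ⟨⊤, J.top_mem V, fun W g _ => PH.base W m (fun j hj => hab j (Or.inr (by lia)))⟩
    | succ k ih =>
      intro m hm
      refine PH.locally_step (ih (m + 1) (by push_cast at hm; lia)) (hE' m) ?_
      rcases lt_or_ge m a with h | h
      · exact Or.inl (hEa m h)
      · exact Or.inr (hK m h)
  exact key (b + 1 - n).toNat n (by lia)

/-- A full contraction is a homotopy to zero. -/
theorem PH.homotopy {W : C} {n : ℤ} (h : PH φ W n) (hE : ∀ j, j < n → IsZero (E.X j)) :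
    Nonempty (Homotopy ((resCx O W).map φ) 0) := by
  obtain ⟨h, hh⟩ := h
  classical
  have hall : ∀ i j k : ℤ, i + 1 = j → j + 1 = k →
    (ModSite.restr O W).map (φ.f j) = h j i ≫ (ModSite.restr O W).map (K.d i j) +
      (ModSite.restr O W).map (E.d j k) ≫ h k j := by
    intro i j k hij hjk
    rcases lt_or_ge j n with hj | hj
    · exact restr_hom_ext (hE j hj) _ _
    · exact hh i j k hij hjk hj
  let hom : ∀ i j : ℤ, ((resCx O W).obj E).X i ⟶ ((resCx O W).obj K).X j :=
    fun i j => if j + 1 = i then h i j else 0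
  have hc : ∀ i j : ℤ, j + 1 = i → hom i j = h i j := fun i j hij => if_pos hij
  refine ⟨{ hom := hom
            zero := fun i j hij => if_neg hij
            comm := fun j => ?_ }⟩
  rw [dNext_eq hom (show (ComplexShape.up ℤ).Rel j (j + 1) from rfl),
    prevD_eq hom (show (ComplexShape.up ℤ).Rel (j - 1) j by simp), hc _ _ rfl, hc _ _ (by lia)]
  change (ModSite.restr O W).map (φ.f j) = (ModSite.restr O W).map (E.d j (j + 1)) ≫ h (j + 1) j +
    h j (j - 1) ≫ (ModSite.restr O W).map (K.d (j - 1) j) + 0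
  rw [add_zero, add_comm]
  exact hall (j - 1) j (j + 1) (by lia) rfl

/-- Maps from a strictly perfect complex vanishing below `a` to a complex acyclic in degrees `≥ a`
are locally null-homotopic. -/
theorem exists_homotopy_zero (hE : DCoh.IsStrictlyPerfectMod (ModSite.ringSh O) E)
    (a : ℤ) (hEa : ∀ j : ℤ, j < a → IsZero (E.X j)) (hK : ∀ j, a ≤ j → K.ExactAt j) (V : C) :
    ∃ R ∈ J V, ∀ ⦃W : C⦄ (g : W ⟶ V), R g → Nonempty (Homotopy ((resCx O W).map φ) 0) := by
  obtain ⟨R, hR, h⟩ := exists_PH (φ := φ) hE a hEa hK V a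
  exact ⟨R, hR, fun W g hg => (h g hg).homotopy hEa⟩

/-- Local lifting up to homotopy. -/
theorem exists_lift_homotopy {E F G : CochainComplex (ModSite.Mod O) ℤ}
    (α : E ⟶ F) (f : G ⟶ F) (hE : DCoh.IsStrictlyPerfectMod (ModSite.ringSh O) E) (a : ℤ)
    (hEa : ∀ j : ℤ, j < a → IsZero (E.X j))
    (hf : ∀ j : ℤ, a < j → IsIso (HomologicalComplex.homologyMap f j))
    (hfa : Epi (HomologicalComplex.homologyMap f a)) (V : C) :
    ∃ R ∈ J V, ∀ ⦃W : C⦄ (g : W ⟶ V), R g →
      ∃ β : (resCx O W).obj E ⟶ (resCx O W).obj G,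
        Nonempty (Homotopy (β ≫ (resCx O W).map f) ((resCx O W).map α)) := by
  have hC : ∀ i : ℤ, a ≤ i → (CochainComplex.mappingCone f).ExactAt i := by
    intro i hi
    rw [HomologicalComplex.exactAt_iff_isZero_homology,
      Groth.Agent.Dcoh.LocLiftCx.isZero_homology_mappingCone_iff f i (i + 1) rfl]
    constructor
    · rcases hi.eq_or_lt with rfl | h
      · exact hfa
      · have := hf i h
        infer_instance
    · have := hf (i + 1) (by lia)
      infer_instance
  obtain ⟨R, hR, hR'⟩ := exists_homotopy_zero (φ := α ≫ CochainComplex.mappingCone.inr f) hE a hEa hC V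
  refine ⟨R, hR, fun W g hg => ?_⟩
  obtain ⟨H⟩ := hR' g hg
  let Φ := (ModSite.restr O W).mapHomotopyCategory (ComplexShape.up ℤ)
  let T₀ := CochainComplex.mappingCone.triangleh f
  let T := Φ.mapTriangle.obj T₀
  have hT : T ∈ distTriang _ :=
    Φ.map_distinguished T₀ (HomotopyCategory.mappingCone_triangleh_distinguished f)
  let Q := HomotopyCategory.quotient (ModSite.Mod (O.over W)) (ComplexShape.up ℤ)
  let a' : Q.obj ((resCx O W).obj E) ⟶ T.obj₂ := Q.map ((resCx O W).map α)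
  have ha' : a' ≫ T.mor₂ = 0 := by
    have h1 : Q.map ((resCx O W).map (α ≫ CochainComplex.mappingCone.inr f)) = 0 := by
      rw [HomotopyCategory.eq_of_homotopy _ _ H, Functor.map_zero]
    rw [Functor.map_comp, Functor.map_comp] at h1
    exact h1
  obtain ⟨b, hb⟩ := Triangle.coyoneda_exact₂ T hT a' ha'
  obtain ⟨β, hβ⟩ : ∃ β : (resCx O W).obj E ⟶ (resCx O W).obj G, Q.map β = b :=
    Q.map_surjective b
  refine ⟨β, ⟨HomotopyCategory.homotopyOfEq _ _ ?_⟩⟩
  rw [Functor.map_comp, hβ]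
  exact hb.symm

end K293.LocNull
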