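import Groth.Agent.ModSite.K293.Restr
import Mathlib.Algebra.Category.ModuleCat.Sheaf.PushforwardContinuous

/-!
# Restriction of modules from `C/U` to `C/V` along `V ⟶ U`
-/

set_option autoImplicit false

open CategoryTheory CategoryTheory.Limits Opposite

universe u

namespace K293.ResMap

open K293.Restr

variable {C : Type u} [SmallCategory C] {J : GrothendieckTopology C} (O : Sheaf J CommRingCat.{u})
  {U V : C} (f : V ⟶ U)

/-- Restriction of modules from `C/U` to `C/V` along `V ⟶ U`. -/
noncomputable def res : ModSite.Mod (O.over U) ⥤ ModSite.Mod (O.over V) :=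
  SheafOfModules.pushforward.{u} (F := Over.map f) (R := ModSite.ringSh (O.over U))
    (S := ModSite.ringSh (O.over V)) (𝟙 (ModSite.ringSh (O.over V)))

/-- Restricting in two steps. -/
noncomputable def restrRes : ModSite.restr O U ⋙ res O f ≅ ModSite.restr O V := Iso.refl _

instance additive_res : (res O f).Additive where
  map_add := rfl

/-- Restriction preserves colimits. -/
instance preservesColimits_res : PreservesColimitsOfSize.{u, u} (res O f) := by
  have h1 : PreservesColimitsOfSize.{u, u}
      ((Over.map f).sheafPushforwardContinuous AddCommGrpCat.{u} (J.over V) (J.over U)) :=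
    ((Over.map f).sheafAdjunctionCocontinuous AddCommGrpCat.{u}
      (J.over V) (J.over U)).leftAdjoint_preservesColimits
  have h2 := preservesColimits_toSheaf (ModSite.ringSh (O.over U))
  have h3 : PreservesColimitsOfSize.{u, u}
      (res O f ⋙ SheafOfModules.toSheaf.{u} (ModSite.ringSh (O.over V))) :=
    inferInstanceAs (PreservesColimitsOfSize.{u, u}
      (SheafOfModules.toSheaf.{u} (ModSite.ringSh (O.over U)) ⋙
        (Over.map f).sheafPushforwardContinuous AddCommGrpCat.{u} (J.over V) (J.over U)))
  have h4 := reflectsColimits_toSheaf (ModSite.ringSh (O.over V))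
  exact preservesColimits_of_reflects_of_preserves (res O f)
    (SheafOfModules.toSheaf.{u} (ModSite.ringSh (O.over V)))

instance preservesFiniteColimits_res : PreservesFiniteColimits (res O f) :=
  PreservesColimitsOfSize.preservesFiniteColimits.{u, u} _

/-- The restriction of the structure sheaf. -/
noncomputable def resUnitIso :
    SheafOfModules.unit (ModSite.ringSh (O.over V)) ≅
      (res O f).obj (SheafOfModules.unit (ModSite.ringSh (O.over U))) := Iso.refl _

/-- The restriction of a free module is free. -/
noncomputable def resFreeIso (I : Type u) :
    SheafOfModules.free (R := ModSite.ringSh (O.over V)) I ≅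
      (res O f).obj (SheafOfModules.free I) :=
  SheafOfModules.mapFreeIso (res O f) I (resUnitIso O f)

end K293.ResMap
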