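import Groth.Agent.ModSite.K293.TensFree
import Groth.Agent.ModSite.K293.ResMap
import Groth.Agent.ModSite.K291.Restr
import Mathlib.Topology.Sheaves.Over

/-!
# Local generation, presentation, freeness of modules on a ringed space, at points

For a module `F` on a ringed space we characterise the Mathlib notions (local generators data,
finite type, quasi-coherent, finite presentation, locally free) by the existence, near every point,
of an open `U` with `Gn F|_U I`, `Pn F|_U I K`, `Fn F|_U I` (see `K293.TensFree`), and prove that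
these are stable under restriction and tensor products.
-/

set_option autoImplicit false

open CategoryTheory CategoryTheory.Limits Opposite MonoidalCategory TopologicalSpace

universe u

namespace K293.LocProp

open scoped K291.Mon
open K291.Mon K291.Colim K293.TensFree K293.ResMap K293.Restr

section Map

variable {C : Type u} [SmallCategory C] {J : GrothendieckTopology C} {O : Sheaf J CommRingCat.{u}}
  {C' : Type u} [SmallCategory C'] {J' : GrothendieckTopology C'} {O' : Sheaf J' CommRingCat.{u}}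
  (T : ModSite.Mod O ⥤ ModSite.Mod O') [PreservesColimitsOfSize.{u, u} T]
  (η : ModSite.unit O' ≅ T.obj (ModSite.unit O))

local instance : PreservesColimitsOfSize.{0, 0} T := preservesColimitsOfSize_shrink _

/-- The comparison of free modules. -/
noncomputable def mf (I : Type u) : fr O' I ≅ T.obj (fr O I) :=
  SheafOfModules.mapFreeIso T I η

include η

theorem Gn.map {M : ModSite.Mod O} {I : Type u} (h : Gn M I) : Gn (T.obj M) I := by
  obtain ⟨p, hp⟩ := h
  exact ⟨(mf T η I).hom ≫ T.map p, inferInstance⟩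

theorem Fn.map {M : ModSite.Mod O} {I : Type u} (h : Fn M I) : Fn (T.obj M) I :=
  ⟨T.mapIso h.some ≪≫ (mf T η I).symm⟩

theorem Pn.map {M : ModSite.Mod O} {I K : Type u} (h : Pn M I K) : Pn (T.obj M) I K := by
  obtain ⟨a, p, w, ⟨hc⟩⟩ := h
  have hT : T.PreservesZeroMorphisms := by
    have : PreservesFiniteColimits T := PreservesColimitsOfSize.preservesFiniteColimits.{u, u} _
    have : PreservesColimitsOfShape (Discrete PEmpty.{1}) T :=
      PreservesFiniteColimits.preservesFiniteColimits _
    have : PreservesColimit (Functor.empty.{0} _) T := inferInstance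
    exact Functor.preservesZeroMorphisms_of_preserves_initial_object
  have hw : T.map a ≫ T.map p = 0 := by rw [← T.map_comp, w, T.map_zero]
  have h1 : Nonempty (IsColimit (CokernelCofork.ofπ (f := T.map a) (T.map p) hw)) :=
    ⟨CokernelCofork.mapIsColimit _ hc T⟩
  rw [nonempty_isColimit_iff] at h1
  have h0 := h1.1
  refine ⟨(mf T η K).hom ≫ T.map a ≫ (mf T η I).inv, (mf T η I).hom ≫ T.map p, ?_, ?_⟩
  · simp [hw]
  · rw [nonempty_isColimit_iff]
    refine ⟨inferInstance, fun {Z} h e => ?_⟩
    simp only [Category.assoc, Preadditive.IsIso.comp_left_eq_zero] at e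
    obtain ⟨l, hl⟩ := h1.2 _ e
    exact ⟨l, by rw [Category.assoc, hl, Iso.hom_inv_id_assoc]⟩

end Map

section Iso

variable {C : Type u} [SmallCategory C] {J : GrothendieckTopology C} {O : Sheaf J CommRingCat.{u}}

theorem Gn.of_iso {M N : ModSite.Mod O} (e : M ≅ N) {I : Type u} (h : Gn M I) : Gn N I := by
  obtain ⟨p, hp⟩ := h
  exact ⟨p ≫ e.hom, inferInstance⟩

theorem Fn.of_iso {M N : ModSite.Mod O} (e : M ≅ N) {I : Type u} (h : Fn M I) : Fn N I :=
  ⟨e.symm ≪≫ h.some⟩

theorem Pn.of_iso {M N : ModSite.Mod O} (e : M ≅ N) {I K : Type u} (h : Pn M I K) : Pn N I K := by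
  obtain ⟨a, p, w, hc⟩ := h
  rw [nonempty_isColimit_iff] at hc
  have := hc.1
  refine ⟨a, p ≫ e.hom, by rw [← Category.assoc, w, zero_comp], ?_⟩
  rw [nonempty_isColimit_iff]
  refine ⟨inferInstance, fun {Z} h w' => ?_⟩
  obtain ⟨l, hl⟩ := hc.2 h w'
  exact ⟨e.inv ≫ l, by simp [hl]⟩

end Iso

section Mathlib

variable {C : Type u} [SmallCategory C] {J : GrothendieckTopology C} {O : Sheaf J CommRingCat.{u}}

theorem gn_of_gen {M : ModSite.Mod O} (σ : SheafOfModules.GeneratingSections (R := ModSite.ringSh O) M) :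
    Gn M σ.I := ⟨σ.π, σ.epi⟩

/-- Generating sections from an epimorphism. -/
noncomputable def genOf {M : ModSite.Mod O} {I : Type u} (p : fr O I ⟶ M) [hp : Epi p] :
    SheafOfModules.GeneratingSections (R := ModSite.ringSh O) M where
  I := I
  s := SheafOfModules.freeHomEquiv M p
  epi := by rw [Equiv.symm_apply_apply]; exact hp

theorem pn_of_pres {M : ModSite.Mod O} (σ : SheafOfModules.Presentation (R := ModSite.ringSh O) M) :
    Pn M σ.generators.I σ.relations.I := ⟨_, _, _, ⟨σ.isColimit⟩⟩

theorem exists_pres {M : ModSite.Mod O} {I K : Type u} (h : Pn M I K) :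
    ∃ σ : SheafOfModules.Presentation (R := ModSite.ringSh O) M,
      σ.generators.I = I ∧ σ.relations.I = K := by
  obtain ⟨a, p, w, ⟨hc⟩⟩ := h
  exact ⟨SheafOfModules.presentationOfIsCokernelFree a p w hc, rfl, rfl⟩

end Mathlib

section Space

variable {X : TopCat.{u}} {O : Sheaf (Opens.grothendieckTopology X) CommRingCat.{u}}

variable (F G : ModSite.Mod O)

theorem Gn.restr {F : ModSite.Mod O} {U V : Opens X} (hV : V ≤ U) {I : Type u}
    (h : Gn ((ModSite.restr O U).obj F) I) : Gn ((ModSite.restr O V).obj F) I :=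
  Gn.map (res O (homOfLE hV)) (resUnitIso O (homOfLE hV)) h

theorem Pn.restr {F : ModSite.Mod O} {U V : Opens X} (hV : V ≤ U) {I K : Type u}
    (h : Pn ((ModSite.restr O U).obj F) I K) : Pn ((ModSite.restr O V).obj F) I K :=
  Pn.map (res O (homOfLE hV)) (resUnitIso O (homOfLE hV)) h

theorem Fn.restr {F : ModSite.Mod O} {U V : Opens X} (hV : V ≤ U) {I : Type u}
    (h : Fn ((ModSite.restr O U).obj F) I) : Fn ((ModSite.restr O V).obj F) I :=
  Fn.map (res O (homOfLE hV)) (resUnitIso O (homOfLE hV)) h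

theorem coversTop_of_mem {ι : Type u} (U : ι → Opens X) (h : ∀ x, ∃ i, x ∈ U i) :
    (Opens.grothendieckTopology X).CoversTop U := by
  rw [Opens.coversTop_iff, IsOpenCover]
  exact eq_top_iff.mpr fun x _ => Opens.mem_iSup.mpr (h x)

theorem mem_of_coversTop {ι : Type u} (U : ι → Opens X)
    (hc : (Opens.grothendieckTopology X).CoversTop U) (x : X) : ∃ i, x ∈ U i := by
  rw [Opens.coversTop_iff, IsOpenCover] at hc
  have hx : x ∈ ⨆ i, U i := by rw [hc]; trivial
  rwa [Opens.mem_iSup] at hx

theorem localGeneratorsData_iff :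
    Nonempty (SheafOfModules.LocalGeneratorsData.{u} (R := ModSite.ringSh O) F) ↔
      ∀ x : X, ∃ (U : Opens X) (I : Type u), x ∈ U ∧ Gn ((ModSite.restr O U).obj F) I := by
  constructor
  · rintro ⟨q⟩ x
    obtain ⟨i, hi⟩ := mem_of_coversTop q.X q.coversTop x
    exact ⟨q.X i, _, hi, gn_of_gen (O := O.over (q.X i)) (q.generators i)⟩
  · intro h
    choose U I hU p hp using h
    exact ⟨SheafOfModules.LocalGeneratorsData.mk.{u, u, u, u} (I := ↥X) U
      (coversTop_of_mem U fun x => ⟨x, hU x⟩) (fun x => genOf (O := O.over (U x)) (p x))⟩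

theorem isFiniteType_iff :
    SheafOfModules.IsFiniteType (R := ModSite.ringSh O) F ↔
      ∀ x : X, ∃ (U : Opens X) (I : Type u), x ∈ U ∧ Finite I ∧ Gn ((ModSite.restr O U).obj F) I := by
  constructor
  · intro h x
    obtain ⟨q, hq⟩ := h.exists_localGeneratorsData
    obtain ⟨i, hi⟩ := mem_of_coversTop q.X q.coversTop x
    exact ⟨q.X i, _, hi, (hq.isFiniteType i).finite, gn_of_gen (O := O.over (q.X i)) (q.generators i)⟩
  · intro h
    choose U I hU hI p hp using h
    let σ := SheafOfModules.LocalGeneratorsData.mk.{u, u, u, u} (I := ↥X) U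
      (coversTop_of_mem U fun x => ⟨x, hU x⟩) (fun x => genOf (O := O.over (U x)) (p x))
    have hσ : σ.IsFiniteType :=
      SheafOfModules.LocalGeneratorsData.IsFiniteType.mk.{u, u, u, u} (fun x => ⟨hI x⟩)
    exact SheafOfModules.IsFiniteType.mk.{u, u, u} ⟨σ, hσ⟩

theorem isQuasicoherent_iff :
    SheafOfModules.IsQuasicoherent (R := ModSite.ringSh O) F ↔
      ∀ x : X, ∃ (U : Opens X) (I K : Type u), x ∈ U ∧ Pn ((ModSite.restr O U).obj F) I K := by
  constructor
  · rintro ⟨⟨q⟩⟩ x
    obtain ⟨i, hi⟩ := mem_of_coversTop q.X q.coversTop x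
    exact ⟨q.X i, _, _, hi, pn_of_pres (O := O.over (q.X i)) (q.presentation i)⟩
  · intro h
    choose U I K hU h using h
    choose σ h1 h2 using fun x => exists_pres (O := O.over (U x)) (h x)
    let τ := SheafOfModules.QuasicoherentData.mk.{u, u, u, u} (I := ↥X) U
      (coversTop_of_mem U fun x => ⟨x, hU x⟩) σ
    exact SheafOfModules.IsQuasicoherent.mk.{u, u, u} ⟨τ⟩

theorem isFinitePresentation_iff :
    SheafOfModules.IsFinitePresentation (R := ModSite.ringSh O) F ↔
      ∀ x : X, ∃ (U : Opens X) (I K : Type u), x ∈ U ∧ Finite I ∧ Finite K ∧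
        Pn ((ModSite.restr O U).obj F) I K := by
  constructor
  · intro h x
    obtain ⟨q, hq⟩ := SheafOfModules.IsFinitePresentation.exists_quasicoherentData
      (R := ModSite.ringSh O) F
    obtain ⟨i, hi⟩ := mem_of_coversTop q.X q.coversTop x
    have h3 := hq.isFinite_presentation i
    exact ⟨q.X i, _, _, hi, h3.isFiniteType_generators.finite, h3.isFiniteType_relations.finite,
      pn_of_pres (O := O.over (q.X i)) (q.presentation i)⟩
  · intro h
    choose U I K hU hI hK h using h
    choose σ h1 h2 using fun x => exists_pres (O := O.over (U x)) (h x)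
    let τ := SheafOfModules.QuasicoherentData.mk.{u, u, u, u} (I := ↥X) U
      (coversTop_of_mem U fun x => ⟨x, hU x⟩) σ
    have hσ : ∀ x, (σ x).IsFinite := fun x => by
      have e1 : Finite (σ x).generators.I := by rw [h1 x]; exact hI x
      have e2 : Finite (σ x).relations.I := by rw [h2 x]; exact hK x
      exact ⟨⟨e1⟩, ⟨e2⟩⟩
    have hτ : τ.IsFinitePresentation :=
      SheafOfModules.QuasicoherentData.IsFinitePresentation.mk.{u, u, u, u} hσ
    exact SheafOfModules.IsFinitePresentation.mk.{u, u, u} ⟨τ, hτ⟩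

theorem isLocallyFree_iff :
    SheafOfModules.IsLocallyFree (R := ModSite.ringSh O) F ↔
      ∀ x : X, ∃ (U : Opens X) (I : Type u), x ∈ U ∧ Fn ((ModSite.restr O U).obj F) I := by
  constructor
  · intro h x
    obtain ⟨q, hq⟩ := h.exists_isLocallyFreeData
    obtain ⟨i, hi⟩ := mem_of_coversTop q.X q.coversTop x
    have := hq.isIso i
    exact ⟨q.X i, _, hi, ⟨(asIso (q.generators i).π).symm⟩⟩
  · intro h
    choose U I hU e using h
    let σ := SheafOfModules.LocalGeneratorsData.mk.{u, u, u, u} (I := ↥X) U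
      (coversTop_of_mem U fun x => ⟨x, hU x⟩)
      (fun x => genOf (O := O.over (U x)) (e x).some.inv)
    have hσ : ∀ x, IsIso ((genOf (O := O.over (U x)) (e x).some.inv).π) := fun x => by
      have h1 : (genOf (O := O.over (U x)) (e x).some.inv).π = (e x).some.inv :=
        Equiv.symm_apply_apply _ _
      rw [h1]
      infer_instance
    have hσ' : σ.IsLocallyFreeData :=
      SheafOfModules.LocalGeneratorsData.IsLocallyFreeData.mk.{u, u, u, u} hσ
    exact SheafOfModules.IsLocallyFree.mk.{u, u, u} ⟨σ, hσ'⟩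

/-- Restriction commutes with tensor products. -/
noncomputable def rt (U : Opens X) :
    (ModSite.restr O U).obj F ⊗ (ModSite.restr O U).obj G ≅
      (ModSite.restr O U).obj (((ModSite.tensorBi O).obj F).obj G) :=
  (K291.Restr.restrTensor O U F G).symm

theorem s6850 :
    (Nonempty (SheafOfModules.LocalGeneratorsData.{u} (R := ModSite.ringSh O) F) →
        Nonempty (SheafOfModules.LocalGeneratorsData.{u} (R := ModSite.ringSh O) G) →
          Nonempty (SheafOfModules.LocalGeneratorsData.{u} (R := ModSite.ringSh O) (((ModSite.tensorBi O).obj F).obj G))) ∧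
      (SheafOfModules.IsFiniteType (R := ModSite.ringSh O) F → SheafOfModules.IsFiniteType (R := ModSite.ringSh O) G →
        SheafOfModules.IsFiniteType (R := ModSite.ringSh O) (((ModSite.tensorBi O).obj F).obj G)) ∧
      (SheafOfModules.IsQuasicoherent (R := ModSite.ringSh O) F →
        SheafOfModules.IsQuasicoherent (R := ModSite.ringSh O) G →
          SheafOfModules.IsQuasicoherent (R := ModSite.ringSh O) (((ModSite.tensorBi O).obj F).obj G)) ∧
      (SheafOfModules.IsFinitePresentation (R := ModSite.ringSh O) F →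
        SheafOfModules.IsFinitePresentation (R := ModSite.ringSh O) G →
          SheafOfModules.IsFinitePresentation (R := ModSite.ringSh O) (((ModSite.tensorBi O).obj F).obj G)) ∧
      (SheafOfModules.IsLocallyFree (R := ModSite.ringSh O) F → SheafOfModules.IsLocallyFree (R := ModSite.ringSh O) G →
        SheafOfModules.IsLocallyFree (R := ModSite.ringSh O) (((ModSite.tensorBi O).obj F).obj G)) := by
  refine ⟨?_, ?_, ?_, ?_, ?_⟩
  · rw [localGeneratorsData_iff, localGeneratorsData_iff, localGeneratorsData_iff]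
    intro h h' x
    obtain ⟨U, I, hx, h1⟩ := h x
    obtain ⟨U', I', hx', h1'⟩ := h' x
    exact ⟨U ⊓ U', _, ⟨hx, hx'⟩, Gn.of_iso (rt F G (U ⊓ U'))
      ((Gn.restr inf_le_left h1).tensor (Gn.restr inf_le_right h1'))⟩
  · rw [isFiniteType_iff, isFiniteType_iff, isFiniteType_iff]
    intro h h' x
    obtain ⟨U, I, hx, hI, h1⟩ := h x
    obtain ⟨U', I', hx', hI', h1'⟩ := h' x
    exact ⟨U ⊓ U', _, ⟨hx, hx'⟩, inferInstance, Gn.of_iso (rt F G (U ⊓ U'))
      ((Gn.restr inf_le_left h1).tensor (Gn.restr inf_le_right h1'))⟩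
  · rw [isQuasicoherent_iff, isQuasicoherent_iff, isQuasicoherent_iff]
    intro h h' x
    obtain ⟨U, I, K, hx, h1⟩ := h x
    obtain ⟨U', I', K', hx', h1'⟩ := h' x
    exact ⟨U ⊓ U', _, _, ⟨hx, hx'⟩, Pn.of_iso (rt F G (U ⊓ U'))
      ((Pn.restr inf_le_left h1).tensor (Pn.restr inf_le_right h1'))⟩
  · rw [isFinitePresentation_iff, isFinitePresentation_iff, isFinitePresentation_iff]
    intro h h' x
    obtain ⟨U, I, K, hx, hI, hK, h1⟩ := h x
    obtain ⟨U', I', K', hx', hI', hK', h1'⟩ := h' x
    exact ⟨U ⊓ U', _, _, ⟨hx, hx'⟩, inferInstance, inferInstance, Pn.of_iso (rt F G (U ⊓ U'))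
      ((Pn.restr inf_le_left h1).tensor (Pn.restr inf_le_right h1'))⟩
  · rw [isLocallyFree_iff, isLocallyFree_iff, isLocallyFree_iff]
    intro h h' x
    obtain ⟨U, I, hx, h1⟩ := h x
    obtain ⟨U', I', hx', h1'⟩ := h' x
    exact ⟨U ⊓ U', _, ⟨hx, hx'⟩, Fn.of_iso (rt F G (U ⊓ U'))
      ((Fn.restr inf_le_left h1).tensor (Fn.restr inf_le_right h1'))⟩

end Space

end K293.LocProp
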