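import Groth.Agent.ModSite.K293.ExtCop
import Groth.Agent.ModSite.K295.Coprod
import Groth.Agent.ModSite.K291.Colim
import Groth.Agent.CohtopB.EpiSheaf
import Groth.Prelude.Def_CohSite

/-!
# Free modules on weakly contractible objects are projective

* `surjective_ap`: an epimorphism of modules is surjective on sections over a weakly contractible
  object;
* `projective_freeOn`: `j_{U!} O_U` is projective for `U` weakly contractible.
-/

set_option autoImplicit false

universe u

open CategoryTheory CategoryTheory.Limits Opposite

namespace K293.ProjFree

open K296.FreeOn ModSite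

variable {C : Type u} [SmallCategory C] {J : GrothendieckTopology C} {O : Sheaf J CommRingCat.{u}}

theorem surjective_ap {F G : Mod O} (f : F ⟶ G) [Epi f] (U : C)
    (hU : CohSite.IsWeaklyContractible J U) : Function.Surjective (ap f U) := by
  have h0 := K296.Ab.preservesColimits_toSheaf (ringSh O)
  have h2 : PreservesFiniteColimits (SheafOfModules.toSheaf (ringSh O)) :=
    PreservesColimitsOfSize.preservesFiniteColimits.{u, u} _
  have h1 : Epi ((SheafOfModules.toSheaf (ringSh O)).map f) := inferInstance
  exact hU _ _ _ (Groth.Agent.CohtopB.EpiSheaf.epi_forget_map J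
    ((SheafOfModules.toSheaf (ringSh O)).map f))

theorem projective_freeOn (O : Sheaf J CommRingCat.{u}) (U : C)
    (hU : CohSite.IsWeaklyContractible J U) : Projective (freeOn O U) where
  factors {E X} f e he := by
    obtain ⟨s, hs⟩ := surjective_ap e U hU (ap f U (gen O U))
    exact ⟨lift s, by rw [lift_comp, hs, lift_ap_gen]⟩

end K293.ProjFree
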