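import Groth.Agent.ModSite.K293.PullUnit
import Groth.Agent.ModSite.K293.Restr
import Groth.Prelude.Def_AlgSpPerf

/-!
# Summands of finite free modules under additive functors
-/

set_option autoImplicit false

open CategoryTheory CategoryTheory.Limits Opposite

universe u

namespace K293.StrPerf

variable {C : Type u} [SmallCategory C] {J : GrothendieckTopology C} {O_C : Sheaf J CommRingCat.{u}}
    {D : Type u} [SmallCategory D] {K : GrothendieckTopology D} {O_D : Sheaf K CommRingCat.{u}}

/-- An additive functor sending the structure sheaf to the structure sheaf preserves direct summands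
of finite free modules. -/
theorem isFinFreeSummandMod_map (T : ModSite.Mod O_D ⥤ ModSite.Mod O_C) [T.Additive]
    (η : ModSite.unit O_C ≅ T.obj (ModSite.unit O_D)) {M : ModSite.Mod O_D}
    (hM : DCoh.IsFinFreeSummandMod (ModSite.ringSh O_D) M) :
    DCoh.IsFinFreeSummandMod (ModSite.ringSh O_C) (T.obj M) := by
  obtain ⟨n, i, p, hip⟩ := hM
  let e := SheafOfModules.mapFreeIso T (ULift.{u} (Fin n)) η
  refine ⟨n, T.map i ≫ e.inv, e.hom ≫ T.map p, ?_⟩
  rw [Category.assoc, Iso.inv_hom_id_assoc, ← T.map_comp, hip, T.map_id]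

theorem isStrictlyPerfectMod_map (T : ModSite.Mod O_D ⥤ ModSite.Mod O_C) [T.Additive]
    (η : ModSite.unit O_C ≅ T.obj (ModSite.unit O_D)) {E : CochainComplex (ModSite.Mod O_D) ℤ}
    (hE : DCoh.IsStrictlyPerfectMod (ModSite.ringSh O_D) E) :
    DCoh.IsStrictlyPerfectMod (ModSite.ringSh O_C)
      ((T.mapHomologicalComplex (ComplexShape.up ℤ)).obj E) := by
  obtain ⟨⟨a, b, hab⟩, h⟩ := hE
  exact ⟨⟨a, b, fun i hi => T.map_isZero (hab i hi)⟩, fun i => isFinFreeSummandMod_map T η (h i)⟩

end K293.StrPerf
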