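import Groth.Agent.ModSite.K291.Colim
import Mathlib.Algebra.Category.ModuleCat.Sheaf.Quasicoherent
import Mathlib.Algebra.Category.ModuleCat.Sheaf.LocallyFree

/-!
# Tensor products of free, generated and presented modules

* `freeTens O I J : free (I × J) ≅ free I ⊗ free J`;
* `Gn M I`: `M` is a quotient of `free I`; `Gn.tensor`;
* `Pn M I K`: `M` is the cokernel of a map `free K ⟶ free I`; `Pn.tensor`.
-/

set_option autoImplicit false

open CategoryTheory CategoryTheory.Limits Opposite MonoidalCategory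

universe u

namespace K293.TensFree

open scoped K291.Mon
open K291.Mon K291.Colim

variable {C : Type u} [SmallCategory C] {J : GrothendieckTopology C} (O : Sheaf J CommRingCat.{u})

/-- The free module. -/
noncomputable abbrev fr (I : Type u) : ModSite.Mod O := SheafOfModules.free (R := ModSite.ringSh O) I

/-- The basis maps. -/
noncomputable abbrev bf {I : Type u} (i : I) : 𝟙_ (ModSite.Mod O) ⟶ fr O I :=
  SheafOfModules.ιFree (R := ModSite.ringSh O) i

/-- The universal property of `free I ⊗ M`. -/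
noncomputable def isColimit₁ (I : Type u) (M : ModSite.Mod O) :
    IsColimit (Cofan.mk (fr O I ⊗ M) (fun i : I => bf O i ▷ M)) :=
  isColimitMapCoconeCofanMkEquiv (tensorRight M) _ _
    (isColimitOfPreserves (tensorRight M) (SheafOfModules.isColimitFreeCofan (R := ModSite.ringSh O) I))

/-- The universal property of `M ⊗ free I`. -/
noncomputable def isColimit₂ (I : Type u) (M : ModSite.Mod O) :
    IsColimit (Cofan.mk (M ⊗ fr O I) (fun i : I => M ◁ bf O i)) :=
  isColimitMapCoconeCofanMkEquiv (tensorLeft M) _ _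
    (isColimitOfPreserves (tensorLeft M) (SheafOfModules.isColimitFreeCofan (R := ModSite.ringSh O) I))

/-- The basis maps of `free I ⊗ free J`. -/
noncomputable def leg (I I' : Type u) (p : I × I') : 𝟙_ (ModSite.Mod O) ⟶ fr O I ⊗ fr O I' :=
  (λ_ (𝟙_ (ModSite.Mod O))).inv ≫ (𝟙_ _ ◁ bf O p.2) ≫ (bf O p.1 ▷ fr O I')

/-- `free I ⊗ free J` is free on `I × J`. -/
noncomputable def isColimitLeg (I I' : Type u) :
    IsColimit (Cofan.mk (fr O I ⊗ fr O I') (leg O I I')) :=
  mkCofanColimit _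
    (fun s => Cofan.IsColimit.desc (isColimit₁ O I (fr O I')) fun i =>
      Cofan.IsColimit.desc (isColimit₂ O I' (𝟙_ (ModSite.Mod O))) fun j =>
        (λ_ (𝟙_ (ModSite.Mod O))).hom ≫ s.inj (i, j))
    (fun s p => by
      change leg O I I' p ≫ _ = _
      rw [leg, Category.assoc, Category.assoc]
      have h1 := Cofan.IsColimit.fac (isColimit₁ O I (fr O I')) (fun i =>
        Cofan.IsColimit.desc (isColimit₂ O I' (𝟙_ (ModSite.Mod O))) fun j =>
          (λ_ (𝟙_ (ModSite.Mod O))).hom ≫ s.inj (i, j)) p.1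
      have h2 := Cofan.IsColimit.fac (isColimit₂ O I' (𝟙_ (ModSite.Mod O)))
        (fun j => (λ_ (𝟙_ (ModSite.Mod O))).hom ≫ s.inj (p.1, j)) p.2
      refine (congrArg (fun z => (λ_ (𝟙_ (ModSite.Mod O))).inv ≫ (𝟙_ _ ◁ bf O p.2) ≫ z) h1).trans ?_
      refine (congrArg (fun z => (λ_ (𝟙_ (ModSite.Mod O))).inv ≫ z) h2).trans ?_
      rw [Iso.inv_hom_id_assoc])
    (fun s m hm => by
      refine Cofan.IsColimit.hom_ext (isColimit₁ O I (fr O I')) _ _ fun i => ?_
      refine Cofan.IsColimit.hom_ext (isColimit₂ O I' (𝟙_ (ModSite.Mod O))) _ _ fun j => ?_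
      have h1 := Cofan.IsColimit.fac (isColimit₁ O I (fr O I')) (fun i =>
        Cofan.IsColimit.desc (isColimit₂ O I' (𝟙_ (ModSite.Mod O))) fun j =>
          (λ_ (𝟙_ (ModSite.Mod O))).hom ≫ s.inj (i, j)) i
      have h2 := Cofan.IsColimit.fac (isColimit₂ O I' (𝟙_ (ModSite.Mod O)))
        (fun j => (λ_ (𝟙_ (ModSite.Mod O))).hom ≫ s.inj (i, j)) j
      refine Eq.trans ?_ (congrArg (fun z => (𝟙_ (ModSite.Mod O) ◁ bf O j) ≫ z) h1).symm
      refine Eq.trans ?_ h2.symm
      rw [← hm (i, j)]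
      change (𝟙_ (ModSite.Mod O) ◁ bf O j) ≫ (bf O i ▷ fr O I') ≫ m =
        (λ_ (𝟙_ (ModSite.Mod O))).hom ≫ leg O I I' (i, j) ≫ m
      rw [leg]
      simp)

/-- `free (I × J) ≅ free I ⊗ free J`. -/
noncomputable def freeTens (I I' : Type u) : fr O (I × I') ≅ fr O I ⊗ fr O I' :=
  (SheafOfModules.isColimitFreeCofan (R := ModSite.ringSh O) (I × I')).coconePointUniqueUpToIso
    (isColimitLeg O I I')

variable {O}

/-- `M` is a quotient of `free I`. -/
def Gn (M : ModSite.Mod O) (I : Type u) : Prop := ∃ p : fr O I ⟶ M, Epi p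

theorem Gn.tensor {M N : ModSite.Mod O} {I I' : Type u} (h : Gn M I) (h' : Gn N I') :
    Gn (M ⊗ N) (I × I') := by
  obtain ⟨p, hp⟩ := h
  obtain ⟨q, hq⟩ := h'
  have h1 : Epi (p ▷ fr O I') := inferInstanceAs (Epi ((tensorRight (fr O I')).map p))
  have h2 : Epi (M ◁ q) := inferInstanceAs (Epi ((tensorLeft M).map q))
  exact ⟨(freeTens O I I').hom ≫ (p ▷ fr O I') ≫ (M ◁ q), inferInstance⟩

theorem pzm (T : ModSite.Mod O ⥤ ModSite.Mod O) [PreservesFiniteColimits T] :
    T.PreservesZeroMorphisms := by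
  have : PreservesColimitsOfShape (Discrete PEmpty.{1}) T :=
    PreservesFiniteColimits.preservesFiniteColimits _
  have : PreservesColimit (Functor.empty.{0} _) T := inferInstance
  exact Functor.preservesZeroMorphisms_of_preserves_initial_object

/-- `M` is the cokernel of a map `free K ⟶ free I`. -/
def Pn (M : ModSite.Mod O) (I K : Type u) : Prop :=
  ∃ (a : fr O K ⟶ fr O I) (p : fr O I ⟶ M) (w : a ≫ p = 0),
    Nonempty (IsColimit (CokernelCofork.ofπ p w))

/-- The map out of the free module on a disjoint union. -/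
noncomputable def sumDesc {A B : Type u} {Z : ModSite.Mod O} (f : fr O A ⟶ Z) (g : fr O B ⟶ Z) :
    fr O (A ⊕ B) ⟶ Z :=
  Cofan.IsColimit.desc (SheafOfModules.isColimitFreeCofan (R := ModSite.ringSh O) (A ⊕ B))
    (Sum.elim (fun a => bf O a ≫ f) (fun b => bf O b ≫ g))

theorem inl_sumDesc {A B : Type u} {Z : ModSite.Mod O} (f : fr O A ⟶ Z) (g : fr O B ⟶ Z) (a : A) :
    bf O (Sum.inl a : A ⊕ B) ≫ sumDesc f g = bf O a ≫ f :=
  Cofan.IsColimit.fac (SheafOfModules.isColimitFreeCofan (R := ModSite.ringSh O) (A ⊕ B))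
    (Sum.elim (fun a => bf O a ≫ f) (fun b => bf O b ≫ g)) (Sum.inl a)

theorem inr_sumDesc {A B : Type u} {Z : ModSite.Mod O} (f : fr O A ⟶ Z) (g : fr O B ⟶ Z) (b : B) :
    bf O (Sum.inr b : A ⊕ B) ≫ sumDesc f g = bf O b ≫ g :=
  Cofan.IsColimit.fac (SheafOfModules.isColimitFreeCofan (R := ModSite.ringSh O) (A ⊕ B))
    (Sum.elim (fun a => bf O a ≫ f) (fun b => bf O b ≫ g)) (Sum.inr b)

theorem fr_hom_ext {I : Type u} {Z : ModSite.Mod O} {f g : fr O I ⟶ Z}
    (h : ∀ i, bf O i ≫ f = bf O i ≫ g) : f = g :=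
  Cofan.IsColimit.hom_ext (SheafOfModules.isColimitFreeCofan (R := ModSite.ringSh O) I) _ _ h

theorem sumDesc_comp_eq_zero_iff {A B : Type u} {Z W : ModSite.Mod O} (f : fr O A ⟶ Z)
    (g : fr O B ⟶ Z) (h : Z ⟶ W) : sumDesc f g ≫ h = 0 ↔ f ≫ h = 0 ∧ g ≫ h = 0 := by
  constructor
  · intro e
    constructor
    · refine fr_hom_ext fun i => ?_
      rw [← Category.assoc, ← inl_sumDesc f g, Category.assoc, e, comp_zero, comp_zero]
    · refine fr_hom_ext fun i => ?_
      rw [← Category.assoc, ← inr_sumDesc f g, Category.assoc, e, comp_zero, comp_zero]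
  · rintro ⟨h1, h2⟩
    refine fr_hom_ext fun i => ?_
    rcases i with i | i
    · rw [← Category.assoc, inl_sumDesc, Category.assoc, h1, comp_zero, comp_zero]
    · rw [← Category.assoc, inr_sumDesc, Category.assoc, h2, comp_zero, comp_zero]

/-- Cokernels, as an existence and uniqueness statement. -/
theorem nonempty_isColimit_iff {A B Q : ModSite.Mod O} (a : A ⟶ B) (p : B ⟶ Q) (w : a ≫ p = 0) :
    Nonempty (IsColimit (CokernelCofork.ofπ p w)) ↔ Epi p ∧
      ∀ {Z : ModSite.Mod O} (h : B ⟶ Z), a ≫ h = 0 → ∃ l : Q ⟶ Z, p ≫ l = h := by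
  constructor
  · rintro ⟨hc⟩
    exact ⟨epi_of_isColimit_cofork hc, fun h e => ⟨_, (CokernelCofork.IsColimit.desc' hc h e).2⟩⟩
  · rintro ⟨hp, h⟩
    exact ⟨CokernelCofork.IsColimit.ofπ' p w fun k e => ⟨(h k e).choose, (h k e).choose_spec⟩⟩

theorem Pn.tensor {M N : ModSite.Mod O} {I K I' K' : Type u} (h : Pn M I K) (h' : Pn N I' K') :
    Pn (M ⊗ N) (I × I') ((K × I') ⊕ (I × K')) := by
  obtain ⟨a, p, w, hc⟩ := h
  obtain ⟨b, q, w', hc'⟩ := h'
  have hz3 : (tensorRight (fr O I')).PreservesZeroMorphisms := pzm _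
  have hz4 : (tensorLeft M).PreservesZeroMorphisms := pzm _
  have hc1 : Nonempty (IsColimit (CokernelCofork.ofπ (f := a ▷ fr O I') (p ▷ fr O I')
      (by rw [← comp_whiskerRight, w]; exact (tensorRight (fr O I')).map_zero _ _))) :=
    ⟨CokernelCofork.mapIsColimit _ hc.some (tensorRight (fr O I'))⟩
  have hc2 : Nonempty (IsColimit (CokernelCofork.ofπ (f := M ◁ b) (M ◁ q)
      (by rw [← MonoidalCategory.whiskerLeft_comp, w']; exact (tensorLeft M).map_zero _ _))) :=
    ⟨CokernelCofork.mapIsColimit _ hc'.some (tensorLeft M)⟩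
  rw [nonempty_isColimit_iff] at hc hc1 hc2
  have hp1 := hc.1
  have hp2 := hc1.1
  have hp3 := hc2.1
  have hp4 : Epi (p ▷ fr O K') := inferInstanceAs (Epi ((tensorRight (fr O K')).map p))
  have hz1 : (a ▷ fr O I') ≫ (p ▷ fr O I') = 0 := by
    rw [← comp_whiskerRight, w]; exact (tensorRight (fr O I')).map_zero _ _
  have hz2 : (M ◁ b) ≫ (M ◁ q) = 0 := by
    rw [← MonoidalCategory.whiskerLeft_comp, w']; exact (tensorLeft M).map_zero _ _
  let a' : fr O ((K × I') ⊕ (I × K')) ⟶ fr O (I × I') :=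
    sumDesc ((freeTens O K I').hom ≫ (a ▷ fr O I') ≫ (freeTens O I I').inv)
      ((freeTens O I K').hom ≫ (fr O I ◁ b) ≫ (freeTens O I I').inv)
  have key : ∀ {Z : ModSite.Mod O} (h : fr O I ⊗ fr O I' ⟶ Z),
      a' ≫ (freeTens O I I').hom ≫ h = 0 ↔ (a ▷ fr O I') ≫ h = 0 ∧ (fr O I ◁ b) ≫ h = 0 := by
    intro Z h
    rw [sumDesc_comp_eq_zero_iff]
    simp only [Category.assoc, Iso.inv_hom_id_assoc, Preadditive.IsIso.comp_left_eq_zero]
  refine ⟨a', (freeTens O I I').hom ≫ (p ▷ fr O I') ≫ (M ◁ q), ?_, ?_⟩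
  · rw [key]
    constructor
    · rw [← Category.assoc, hz1, zero_comp]
    · rw [← Category.assoc, whisker_exchange, Category.assoc, hz2, comp_zero]
  · rw [nonempty_isColimit_iff]
    refine ⟨inferInstance, fun {Z} h e => ?_⟩
    have e1 := (key ((freeTens O I I').inv ≫ h)).1 (by rwa [Iso.hom_inv_id_assoc])
    obtain ⟨h', hh'⟩ := hc1.2 _ e1.1
    have e2 : (M ◁ b) ≫ h' = 0 := by
      rw [← cancel_epi (p ▷ fr O K'), ← Category.assoc, ← whisker_exchange, Category.assoc, hh',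
        comp_zero, e1.2]
    obtain ⟨h'', hh''⟩ := hc2.2 _ e2
    exact ⟨h'', by rw [Category.assoc, Category.assoc, hh'', hh', Iso.hom_inv_id_assoc]⟩

/-- `M` is free on `I`. -/
def Fn (M : ModSite.Mod O) (I : Type u) : Prop := Nonempty (M ≅ fr O I)

theorem Fn.tensor {M N : ModSite.Mod O} {I I' : Type u} (h : Fn M I) (h' : Fn N I') :
    Fn (M ⊗ N) (I × I') :=
  ⟨(h.some ⊗ᵢ h'.some) ≪≫ (freeTens O I I').symm⟩

end K293.TensFree
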