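import Groth.Agent.ModSite.K291.Mon
import Groth.Agent.ModSite.K295.FlatCrit
import Groth.Agent.ModSite.K296.FreeOn

/-!
# Sections of tensor products of modules on a ringed site

For modules `M`, `N` on a small ringed site and sections `m`, `n` over `V`, `tm m n` is the section
`m ⊗ n` of `M ⊗ N` over `V`.

* bilinearity and restrictions: `tm_add_left`, `tm_smul_left`, `rs_tm`, ...;
* `ap_whiskerRight`, `ap_whiskerLeft`, `ap_tensorHom`, `ap_braiding`, `ap_associator`, `ap_leftUnitor`,
  `ap_rightUnitor`: values of the structure maps;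
* `exists_sum_tm`: every section of `M ⊗ N` is locally a finite sum of `tm m n`;
* `tens_hom_ext`: a morphism out of `M ⊗ N` is determined by its values on the `tm m n`.
-/

set_option autoImplicit false

universe u

open CategoryTheory CategoryTheory.Limits Opposite MonoidalCategory
open Functor.LaxMonoidal Functor.OplaxMonoidal

namespace K293.TensSec

open Groth.Agent.Dcoh K291.Mon K295.FlatCrit K296.FreeOn
open scoped K291.Mon

variable {C : Type u} [SmallCategory C] {J : GrothendieckTopology C}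

section

variable (O : Sheaf J CommRingCat.{u})

/-- The forgetful functor to presheaves of modules is lax monoidal. -/
@[instance_reducible]
noncomputable def laxToP : (toP O).LaxMonoidal := (shAdj O).rightAdjointLaxMonoidal

attribute [scoped instance] laxToP

theorem toP_μ (M N : ModSite.Mod O) :
    μ (toP O) M N = (shAdj O).unit.app ((toP O).obj M ⊗ (toP O).obj N) := by
  change (shAdj O).unit.app _ ≫ (toP O).map ((shP O).map ((shAdj O).unit.app ((toP O).obj M) ⊗ₘ
    (shAdj O).unit.app ((toP O).obj N)) ≫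
    (shP O).map ((toP O).map ((shAdj O).counit.app M) ⊗ₘ (toP O).map ((shAdj O).counit.app N))) = _
  rw [← Functor.map_comp, tensorHom_comp_tensorHom]
  have h1 := (shAdj O).right_triangle_components M
  have h2 := (shAdj O).right_triangle_components N
  erw [h1, h2]
  simp

theorem toP_ε : ε (toP O) = 𝟙 (𝟙_ (PM O)) :=
  (shAdj O).right_triangle_components (ModSite.unit O)

end

variable {O : Sheaf J CommRingCat.{u}}

/-- The ring of sections of `O`, as the ring acting on sections of modules. -/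
abbrev Rg (O : Sheaf J CommRingCat.{u}) (U : C) : Type u := (ModSite.ringSh O).obj.obj (op U)

/-- Pure tensors of sections of presheaves of modules. -/
noncomputable def ptm (P Q : PM O) {V : C} (m : P.obj (op V)) (n : Q.obj (op V)) :
    (P ⊗ Q).obj (op V) := m ⊗ₜ[O.obj.obj (op V)] n

theorem ptm_add_left (P Q : PM O) {V : C} (m m' : P.obj (op V)) (n : Q.obj (op V)) :
    ptm P Q (m + m') n = ptm P Q m n + ptm P Q m' n := TensorProduct.add_tmul m m' n

theorem ptm_add_right (P Q : PM O) {V : C} (m : P.obj (op V)) (n n' : Q.obj (op V)) :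
    ptm P Q m (n + n') = ptm P Q m n + ptm P Q m n' := TensorProduct.tmul_add m n n'

theorem ptm_smul_left (P Q : PM O) {V : C} (r : O.obj.obj (op V)) (m : P.obj (op V))
    (n : Q.obj (op V)) : ptm P Q (r • m) n = r • ptm P Q m n := rfl

theorem ptm_smul_right (P Q : PM O) {V : C} (r : O.obj.obj (op V)) (m : P.obj (op V))
    (n : Q.obj (op V)) : ptm P Q m (r • n) = r • ptm P Q m n := TensorProduct.tmul_smul r m n

/-- The section `m ⊗ n`. -/
noncomputable def tm {M N : ModSite.Mod O} {V : C} (m : ModSite.sect M V) (n : ModSite.sect N V) :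
    ModSite.sect (M ⊗ N) V :=
  MonW.sec (μ (toP O) M N) (op V) (ptm ((toP O).obj M) ((toP O).obj N) m n)

theorem tm_def {M N : ModSite.Mod O} {V : C} (m : ModSite.sect M V) (n : ModSite.sect N V) :
    tm m n = MonW.sec (μ (toP O) M N) (op V) (ptm ((toP O).obj M) ((toP O).obj N) m n) := rfl

theorem tm_add_left {M N : ModSite.Mod O} {V : C} (m m' : ModSite.sect M V) (n : ModSite.sect N V) :
    tm (m + m') n = tm m n + tm m' n :=
  (congrArg (MonW.sec (μ (toP O) M N) (op V)) (ptm_add_left _ _ m m' n)).trans (map_add _ _ _)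

theorem tm_add_right {M N : ModSite.Mod O} {V : C} (m : ModSite.sect M V) (n n' : ModSite.sect N V) :
    tm m (n + n') = tm m n + tm m n' :=
  (congrArg (MonW.sec (μ (toP O) M N) (op V)) (ptm_add_right _ _ m n n')).trans (map_add _ _ _)

theorem tm_smul_left {M N : ModSite.Mod O} {V : C} (r : Rg O V) (m : ModSite.sect M V)
    (n : ModSite.sect N V) : tm (r • m) n = r • tm m n :=
  (congrArg (MonW.sec (μ (toP O) M N) (op V)) (ptm_smul_left _ _ r m n)).trans
    ((MonW.sec (μ (toP O) M N) (op V)).map_smul r _)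

theorem tm_smul_right {M N : ModSite.Mod O} {V : C} (r : Rg O V) (m : ModSite.sect M V)
    (n : ModSite.sect N V) : tm m (r • n) = r • tm m n :=
  (congrArg (MonW.sec (μ (toP O) M N) (op V)) (ptm_smul_right _ _ r m n)).trans
    ((MonW.sec (μ (toP O) M N) (op V)).map_smul r _)

theorem tm_zero_right {M N : ModSite.Mod O} {V : C} (m : ModSite.sect M V) :
    tm m (0 : ModSite.sect N V) = 0 := by
  have := tm_add_right m (0 : ModSite.sect N V) 0
  rwa [add_zero, left_eq_add] at this

theorem tm_zero_left {M N : ModSite.Mod O} {V : C} (n : ModSite.sect N V) :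
    tm (0 : ModSite.sect M V) n = 0 := by
  have := tm_add_left (0 : ModSite.sect M V) 0 n
  rwa [add_zero, left_eq_add] at this

/-- `tm` as a bilinear map. -/
noncomputable def tmHom {M N : ModSite.Mod O} {V : C} (m : ModSite.sect M V) :
    ModSite.sect N V →+ ModSite.sect (M ⊗ N) V where
  toFun n := tm m n
  map_zero' := tm_zero_right m
  map_add' := tm_add_right m

/-- `tm` in the first variable. -/
noncomputable def tmHom' {M N : ModSite.Mod O} {V : C} (n : ModSite.sect N V) :
    ModSite.sect M V →+ ModSite.sect (M ⊗ N) V where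
  toFun m := tm m n
  map_zero' := tm_zero_left n
  map_add' m m' := tm_add_left m m' n

theorem tm_sum_right {M N : ModSite.Mod O} {V : C} (m : ModSite.sect M V) {ι : Type*} (S : Finset ι)
    (n : ι → ModSite.sect N V) : tm m (∑ i ∈ S, n i) = ∑ i ∈ S, tm m (n i) :=
  map_sum (tmHom m) n S

theorem tm_sum_left {M N : ModSite.Mod O} {V : C} {ι : Type*} (S : Finset ι)
    (m : ι → ModSite.sect M V) (n : ModSite.sect N V) :
    tm (∑ i ∈ S, m i) n = ∑ i ∈ S, tm (m i) n :=
  map_sum (tmHom' n) m S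

theorem rs_tm {M N : ModSite.Mod O} {V W : C} (g : W ⟶ V) (m : ModSite.sect M V)
    (n : ModSite.sect N V) : rs (M ⊗ N) g (tm m n) = tm (rs M g m) (rs N g n) :=
  (MonW.sec_res (μ (toP O) M N) g.op (ptm ((toP O).obj M) ((toP O).obj N) m n)).symm

theorem ap_tensorHom {M M' N N' : ModSite.Mod O} (f : M ⟶ M') (g : N ⟶ N') {V : C}
    (m : ModSite.sect M V) (n : ModSite.sect N V) :
    ap (f ⊗ₘ g) V (tm m n) = tm (ap f V m) (ap g V n) :=
  (congrArg (fun z : (toP O).obj M ⊗ (toP O).obj N ⟶ (toP O).obj (M' ⊗ N') =>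
    MonW.sec z (op V) (ptm ((toP O).obj M) ((toP O).obj N) m n)) (μ_natural (toP O) f g)).symm

theorem ap_whiskerRight {M M' : ModSite.Mod O} (f : M ⟶ M') (N : ModSite.Mod O) {V : C}
    (m : ModSite.sect M V) (n : ModSite.sect N V) :
    ap (f ▷ N) V (tm m n) = tm (ap f V m) n := by
  rw [← tensorHom_id, ap_tensorHom, ap_id]

theorem ap_whiskerLeft (M : ModSite.Mod O) {N N' : ModSite.Mod O} (g : N ⟶ N') {V : C}
    (m : ModSite.sect M V) (n : ModSite.sect N V) :
    ap (M ◁ g) V (tm m n) = tm m (ap g V n) := by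
  rw [← id_tensorHom, ap_tensorHom, ap_id]

theorem ap_braiding {M N : ModSite.Mod O} {V : C} (m : ModSite.sect M V) (n : ModSite.sect N V) :
    ap (β_ M N).hom V (tm m n) = tm n m := by
  have h : (shAdj O).unit.app ((toP O).obj M ⊗ (toP O).obj N) ≫ (toP O).map (β_ M N).hom =
      (β_ ((toP O).obj M) ((toP O).obj N)).hom ≫
        (shAdj O).unit.app ((toP O).obj N ⊗ (toP O).obj M) :=
    ((shAdj O).unit.naturality (β_ ((toP O).obj M) ((toP O).obj N)).hom).symm
  rw [tm_def, tm_def, toP_μ, toP_μ]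
  exact (congrArg (fun z : (toP O).obj M ⊗ (toP O).obj N ⟶ (toP O).obj (N ⊗ M) =>
    MonW.sec z (op V) (ptm ((toP O).obj M) ((toP O).obj N) m n)) h)

theorem ap_associator {M N P : ModSite.Mod O} {V : C} (m : ModSite.sect M V)
    (n : ModSite.sect N V) (p : ModSite.sect P V) :
    ap (α_ M N P).hom V (tm (tm m n) p) = tm m (tm n p) :=
  congrArg (fun z : ((toP O).obj M ⊗ (toP O).obj N) ⊗ (toP O).obj P ⟶ (toP O).obj (M ⊗ N ⊗ P) =>
    MonW.sec z (op V) (ptm ((toP O).obj M ⊗ (toP O).obj N) ((toP O).obj P)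
      (ptm ((toP O).obj M) ((toP O).obj N) m n) p)) (associativity (toP O) M N P)

theorem ap_leftUnitor {M : ModSite.Mod O} {V : C} (r : Rg O V) (m : ModSite.sect M V) :
    ap (λ_ M).hom V (tm (M := ModSite.unit O) r m) = r • m := by
  have e : MonW.sec (ε (toP O)) (op V) r = r :=
    congrArg (fun z : 𝟙_ (PM O) ⟶ 𝟙_ (PM O) => MonW.sec z (op V) r) (toP_ε O)
  have h1 := congrArg (fun z : 𝟙_ (PM O) ⊗ (toP O).obj M ⟶ (toP O).obj M =>
    MonW.sec z (op V) (ptm (𝟙_ (PM O)) ((toP O).obj M) r m)) (left_unitality (toP O) M)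
  refine Eq.trans ?_ h1.symm
  exact congrArg (fun z => ap (λ_ M).hom V (tm (M := ModSite.unit O) z m)) e.symm

theorem ap_rightUnitor {M : ModSite.Mod O} {V : C} (m : ModSite.sect M V) (r : Rg O V) :
    ap (ρ_ M).hom V (tm (N := ModSite.unit O) m r) = r • m := by
  have e : MonW.sec (ε (toP O)) (op V) r = r :=
    congrArg (fun z : 𝟙_ (PM O) ⟶ 𝟙_ (PM O) => MonW.sec z (op V) r) (toP_ε O)
  have h1 := congrArg (fun z : (toP O).obj M ⊗ 𝟙_ (PM O) ⟶ (toP O).obj M =>
    MonW.sec z (op V) (ptm ((toP O).obj M) (𝟙_ (PM O)) m r)) (right_unitality (toP O) M)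
  refine Eq.trans ?_ h1.symm
  exact congrArg (fun z => ap (ρ_ M).hom V (tm (N := ModSite.unit O) m z)) e.symm

/-- The sections which are finite sums of pure tensors. -/
noncomputable def tmSpan (M N : ModSite.Mod O) (V : C) : AddSubgroup (ModSite.sect (M ⊗ N) V) :=
  AddSubgroup.closure (Set.range fun p : ModSite.sect M V × ModSite.sect N V => tm p.1 p.2)

/-- The map from the sectionwise tensor product. -/
noncomputable def tmL (M N : ModSite.Mod O) (V : C) :
    ((toP O).obj M ⊗ (toP O).obj N).obj (op V) →+ ModSite.sect (M ⊗ N) V :=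
  (MonW.sec (μ (toP O) M N) (op V)).toAddMonoidHom

theorem ptm_induction (P Q : PM O) {V : C} (p : (P ⊗ Q).obj (op V) → Prop) (h0 : p 0)
    (h1 : ∀ m n, p (ptm P Q m n)) (h2 : ∀ x y, p x → p y → p (x + y)) (t : (P ⊗ Q).obj (op V)) :
    p t :=
  TensorProduct.induction_on (motive := p) t h0 h1 h2

theorem sec_μ_mem {M N : ModSite.Mod O} {V : C}
    (t : ((toP O).obj M ⊗ (toP O).obj N).obj (op V)) :
    tmL M N V t ∈ tmSpan M N V := by
  induction t using ptm_induction with
  | h0 => rw [map_zero]; exact zero_mem _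
  | h1 m n => exact AddSubgroup.subset_closure ⟨(m, n), rfl⟩
  | h2 x y hx hy => rw [map_add]; exact add_mem hx hy

/-- Every section of a tensor product is locally in the span of the pure tensors. -/
theorem exists_tmSpan {M N : ModSite.Mod O} {V : C} (t : ModSite.sect (M ⊗ N) V) :
    ∃ S ∈ J V, ∀ ⦃W : C⦄ (g : W ⟶ V), S g → rs (M ⊗ N) g t ∈ tmSpan M N W := by
  have h := LS_unit ((toP O).obj M ⊗ (toP O).obj N)
  rw [← toP_μ] at h
  obtain ⟨S, hS, H⟩ := (LS_iff _).1 h V t
  refine ⟨S, hS, fun W g hg => ?_⟩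
  obtain ⟨y, hy⟩ := H g hg
  have : rs (M ⊗ N) g t = MonW.sec (μ (toP O) M N) (op W) y := hy.symm
  rw [this]
  exact sec_μ_mem (M := M) (N := N) y

theorem exists_sum_of_mem {M N : ModSite.Mod O} {V : C} {t : ModSite.sect (M ⊗ N) V}
    (ht : t ∈ tmSpan M N V) : ∃ (k : ℕ) (m : Fin k → ModSite.sect M V) (n : Fin k → ModSite.sect N V),
      t = ∑ i, tm (m i) (n i) := by
  induction ht using AddSubgroup.closure_induction with
  | mem x hx =>
    obtain ⟨p, rfl⟩ := hx
    exact ⟨1, fun _ => p.1, fun _ => p.2, by simp⟩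
  | zero => exact ⟨0, Fin.elim0, Fin.elim0, by simp⟩
  | add x y _ _ hx hy =>
    obtain ⟨k, m, n, rfl⟩ := hx
    obtain ⟨k', m', n', rfl⟩ := hy
    refine ⟨k + k', Fin.append m m', Fin.append n n', ?_⟩
    rw [Fin.sum_univ_add]
    simp
  | neg x _ hx =>
    obtain ⟨k, m, n, rfl⟩ := hx
    refine ⟨k, fun i => - m i, n, ?_⟩
    rw [← Finset.sum_neg_distrib]
    exact Finset.sum_congr rfl fun i _ => (map_neg (tmHom' (n i)) (m i)).symm

/-- Every section of a tensor product is locally a finite sum of pure tensors. -/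
theorem exists_sum_tm {M N : ModSite.Mod O} {V : C} (t : ModSite.sect (M ⊗ N) V) :
    ∃ S ∈ J V, ∀ ⦃W : C⦄ (g : W ⟶ V), S g → ∃ (k : ℕ) (m : Fin k → ModSite.sect M W)
      (n : Fin k → ModSite.sect N W), rs (M ⊗ N) g t = ∑ i, tm (m i) (n i) := by
  obtain ⟨S, hS, H⟩ := exists_tmSpan t
  exact ⟨S, hS, fun W g hg => exists_sum_of_mem (H g hg)⟩

/-- Morphisms out of a tensor product are determined by their values on pure tensors. -/
theorem tens_hom_ext {M N P : ModSite.Mod O} {f g : M ⊗ N ⟶ P}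
    (h : ∀ (V : C) (m : ModSite.sect M V) (n : ModSite.sect N V), ap f V (tm m n) = ap g V (tm m n)) :
    f = g := by
  apply K296.FreeOn.hom_ext
  intro V s
  obtain ⟨S, hS, H⟩ := exists_sum_tm s
  refine eq_of_locally _ _ S hS fun W i hi => ?_
  obtain ⟨k, m, n, e⟩ := H i hi
  rw [← ap_rs, ← ap_rs, e, map_sum, map_sum]
  exact Finset.sum_congr rfl fun j _ => h W _ _

end K293.TensSec
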