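import Groth.Agent.CohtopB.ModPush

/-!
# Functors preserving pullbacks preserve the Cech nerves

`preservesLimit_wideCospan`: a functor preserving pullbacks preserves the fibre powers `K' ×_K ... ×_K K'`.
-/

set_option autoImplicit false

open CategoryTheory CategoryTheory.Limits Opposite Simplicial

namespace K293.WidePb

open Groth.Agent.CohtopB.NerveHK

variable {𝒮 : Type*} [Category* 𝒮] {𝒯 : Type*} [Category* 𝒯] (F : 𝒮 ⥤ 𝒯) (f : Arrow 𝒮)
  [∀ n : ℕ, HasWidePullback.{0} f.right (fun _ : Fin (n + 1) => f.left) fun _ => f.hom]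

theorem isPullback_nerve_succ (n : ℕ) :
    IsPullback (f.cechNerve.δ (Fin.last (n + 1))) (nProj f (n + 1) (Fin.last (n + 1))) (nBase f n) f.hom := by
  have w : f.cechNerve.δ (Fin.last (n + 1)) ≫ nBase f n = nBase f (n + 1) := by
    rw [← nProj_f f n 0, cechNerve_δ_proj_assoc, nProj_f]
  refine ⟨⟨by rw [w, nProj_f]⟩, ⟨PullbackCone.IsLimit.mk _
    (fun s => liftF (𝟭 𝒮) (n := n + 1) (s.snd ≫ f.hom) (Fin.snoc (fun i => s.fst ≫ nProj f n i) s.snd)
      (fun i => ?_)) ?_ ?_ ?_⟩⟩
  · refine Fin.lastCases ?_ (fun i => ?_) i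
    · simp
    · simp only [Fin.snoc_castSucc, Functor.id_map, Category.assoc, nProj_f]
      exact s.condition
  · intro s
    refine nerve_hom_ext f _ _ fun i => ?_
    rw [Category.assoc, cechNerve_δ_proj, Fin.succAbove_last]
    refine (liftF_proj (𝟭 𝒮) (n := n + 1) _ _ _ _).trans ?_
    rw [Fin.snoc_castSucc]
  · intro s
    refine (liftF_proj (𝟭 𝒮) (n := n + 1) _ _ _ _).trans ?_
    rw [Fin.snoc_last]
  · intro s m h1 h2
    refine nerve_hom_ext f _ _ fun i => ?_
    refine Eq.trans ?_ (liftF_proj (𝟭 𝒮) (n := n + 1) _ _ _ _).symm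
    refine Fin.lastCases ?_ (fun i => ?_) i
    · rw [Fin.snoc_last]; exact h2
    · rw [Fin.snoc_castSucc, ← h1, Category.assoc, cechNerve_δ_proj, Fin.succAbove_last]

variable [PreservesLimitsOfShape WalkingCospan F]

theorem exists_unique_lift (n : ℕ) : ∀ {T : 𝒯} (b : T ⟶ F.obj f.right)
    (a : Fin (n + 1) → (T ⟶ F.obj f.left)) (_ : ∀ i, a i ≫ F.map f.hom = b),
    ∃! t : T ⟶ F.obj (f.cechNerve.obj (op ⦋n⦌)), ∀ i, t ≫ F.map (nProj f n i) = a i := by
  induction n with
  | zero =>
    intro T b a h
    refine ⟨a 0 ≫ F.map (nInv f), fun i => ?_, fun t ht => ?_⟩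
    · obtain rfl : i = 0 := by omega
      rw [Category.assoc, ← F.map_comp, nInv_proj, F.map_id, Category.comp_id]
    · rw [← ht 0, Category.assoc, ← F.map_comp, proj_nInv, F.map_id, Category.comp_id]
  | succ n ih =>
    intro T b a h
    have hp := (isPullback_nerve_succ f n).map F
    obtain ⟨t', ht', hu⟩ := ih b (fun i => a i.castSucc) (fun i => h _)
    have hb : t' ≫ F.map (nBase f n) = b := by
      rw [← nProj_f f n 0, F.map_comp, ← Category.assoc, ht' 0, h]
    refine ⟨hp.lift t' (a (Fin.last (n + 1))) (by rw [hb, h]), fun i => ?_, fun t ht => ?_⟩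
    · refine Fin.lastCases ?_ (fun i => ?_) i
      · exact hp.lift_snd _ _ _
      · have e := cechNerve_δ_proj (f := f) (Fin.last (n + 1)) i
        rw [Fin.succAbove_last] at e
        rw [← e, F.map_comp, ← Category.assoc, hp.lift_fst, ht']
    · apply hp.hom_ext
      · rw [hp.lift_fst]
        apply hu
        intro i
        have e := cechNerve_δ_proj (f := f) (Fin.last (n + 1)) i
        rw [Fin.succAbove_last] at e
        rw [Category.assoc, ← F.map_comp, e, ht]
      · rw [hp.lift_snd, ht]

theorem preservesLimit_wideCospan (n : ℕ) :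
    PreservesLimit (WidePullbackShape.wideCospan.{0} f.right (fun _ : Fin (n + 1) => f.left)
      fun _ => f.hom) F := by
  refine preservesLimit_of_preserves_limit_cone (limit.isLimit _) ?_
  have hw : ∀ (s : Cone (WidePullbackShape.wideCospan.{0} f.right (fun _ : Fin (n + 1) => f.left)
      (fun _ => f.hom) ⋙ F)) (i : Fin (n + 1)), s.π.app (some i) ≫ F.map f.hom = s.π.app none := by
    intro s i
    exact s.w (WidePullbackShape.Hom.term i)
  have hex := fun (s : Cone (WidePullbackShape.wideCospan.{0} f.right (fun _ : Fin (n + 1) => f.left)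
      (fun _ => f.hom) ⋙ F)) => exists_unique_lift F f n (s.π.app none) (fun i => s.π.app (some i)) (hw s)
  exact
    { lift := fun s => (hex s).choose
      fac := fun s j => by
        cases j with
        | none =>
          have h1 := (hex s).choose_spec.1 0
          have h2 := nProj_f f n 0
          change (hex s).choose ≫ F.map (nBase f n) = s.π.app none
          rw [← h2, F.map_comp, ← Category.assoc, h1]
          exact hw s 0
        | some i => exact (hex s).choose_spec.1 i
      uniq := fun s m hm => (hex s).choose_spec.2 m (fun i => hm (some i)) }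

end K293.WidePb
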